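import Mathlib.GroupTheory.Nilpotent
import Mathlib.GroupTheory.SpecificGroups.Cyclic
import Mathlib.GroupTheory.PGroup
import Mathlib.GroupTheory.Index
import Mathlib.Tactic.Linarith

/-!
# The upper central series of a `p`-group of maximal class
-/

set_option autoImplicit false

namespace CfsgLib.FusionMaxClass

variable {p : ℕ} [Fact p.Prime] {X : Type*} [Group X] [Finite X]

theorem mul_card_le {A B : Subgroup X} {m : ℕ} (hX : Nat.card X = p ^ m) (h : A < B) :
    p * Nat.card A ≤ Nat.card B := by
  have hB : IsPGroup p B := (IsPGroup.of_card hX).to_subgroup _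
  obtain ⟨k, hk⟩ := hB.index (A.subgroupOf B)
  have hmul := (A.subgroupOf B).card_mul_index
  rw [Nat.card_congr (Subgroup.subgroupOfEquivOfLe h.le).toEquiv, hk] at hmul
  rcases k with _ | k
  · rw [pow_zero, mul_one] at hmul
    exact absurd (Subgroup.eq_of_le_of_card_ge h.le hmul.ge) h.ne
  · rw [← hmul, mul_comm p]
    exact Nat.mul_le_mul_left _ (Nat.le_self_pow (Nat.succ_ne_zero k) p)

theorem card_upperCentralSeries {n : ℕ} (hX : Nat.card X = p ^ n) (hn : 3 ≤ n)
    (hmax : (⊤ : Subgroup X).lowerCentralSeries (n - 2) ≠ ⊥) {i : ℕ} (hi : i ≤ n - 2) :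
    Nat.card (Subgroup.upperCentralSeries X i) = p ^ i := by
  have hpp : p.Prime := Fact.out
  have hnil : Group.IsNilpotent X := (IsPGroup.of_card hX).isNilpotent
  obtain ⟨c, hc⟩ : ∃ c, c = Group.nilpotencyClass X := ⟨_, rfl⟩
  have hcn : n - 1 ≤ c := by
    by_contra h
    exact hmax (Subgroup.lowerCentralSeries_eq_bot_iff_nilpotencyClass_le.2 (by omega))
  have hlt : ∀ j, j < c → Subgroup.upperCentralSeries X j < Subgroup.upperCentralSeries X (j + 1) := by
    intro j hj
    refine lt_of_le_of_ne (Subgroup.upperCentralSeries_mono X (Nat.le_succ j)) fun he => ?_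
    have : ∀ k, Subgroup.upperCentralSeries X (j + k) = Subgroup.upperCentralSeries X j := by
      intro k
      induction k with
      | zero => rfl
      | succ k ih =>
        refine Eq.trans ?_ he.symm
        ext x
        show x ∈ Subgroup.upperCentralSeries X (j + k + 1) ↔ _
        simp only [Subgroup.mem_upperCentralSeries_succ_iff, ih]
    have h1 := this (c - j)
    rw [Nat.add_sub_cancel' hj.le, hc, Subgroup.upperCentralSeries_nilpotencyClass] at h1
    have h2 : Subgroup.upperCentralSeries X j = ⊤ := h1.symm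
    rw [Subgroup.upperCentralSeries_eq_top_iff_nilpotencyClass_le] at h2
    omega
  have step : ∀ j k, j + k ≤ c → p ^ k * Nat.card (Subgroup.upperCentralSeries X j) ≤
      Nat.card (Subgroup.upperCentralSeries X (j + k)) := by
    intro j k
    induction k with
    | zero => intro _; simp
    | succ k ih =>
      intro hk
      rw [pow_succ', mul_assoc]
      exact (Nat.mul_le_mul_left p (ih (by omega))).trans (mul_card_le hX (hlt (j + k) (by omega)))
  -- the last step has index at least `p ^ 2`
  have hlast : p ^ 2 * Nat.card (Subgroup.upperCentralSeries X (c - 1)) ≤ p ^ n := by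
    obtain ⟨k, hk⟩ := (IsPGroup.of_card hX).index (Subgroup.upperCentralSeries X (c - 1))
    have hmul := (Subgroup.upperCentralSeries X (c - 1)).card_mul_index
    rw [hX, hk] at hmul
    have hk2 : 2 ≤ k := by
      by_contra hk2
      have hne : Subgroup.upperCentralSeries X (c - 1) ≠ ⊤ := fun h => by
        rw [Subgroup.upperCentralSeries_eq_top_iff_nilpotencyClass_le] at h
        omega
      obtain ⟨d, hd⟩ : ∃ d, c - 1 = d + 1 := ⟨c - 2, by omega⟩
      rw [hd] at hk hne
      set Z := Subgroup.upperCentralSeries X (d + 1) with hZ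
      set N := Subgroup.upperCentralSeries X d
      have hk1 : k = 1 := by
        rcases k with _ | _ | k
        · exact absurd (Subgroup.index_eq_one.1 (by simpa using hk)) hne
        · rfl
        · omega
      have : Fact (Nat.card (X ⧸ Z)).Prime := ⟨by
        rw [← Subgroup.index_eq_card, hk, hk1, pow_one]; exact hpp⟩
      haveI : IsCyclic (X ⧸ Z) := isCyclic_of_prime_card rfl
      have hcomap : ∀ x : X, (QuotientGroup.mk x : X ⧸ N) ∈ Subgroup.center (X ⧸ N) ↔ x ∈ Z := by
        intro x
        rw [hZ]
        show _ ↔ x ∈ Subgroup.upperCentralSeriesStep N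
        rw [Subgroup.upperCentralSeriesStep_eq_comap_center]
        rfl
      let f : (X ⧸ N) →* X ⧸ Z := QuotientGroup.map N Z (MonoidHom.id X)
        (by rw [Subgroup.comap_id]; exact Subgroup.upperCentralSeries_mono X (Nat.le_succ d))
      have hab : ∀ a b : X ⧸ N, a * b = b * a := by
        refine commutative_of_cyclic_center_quotient f (fun a ha => ?_)
        induction a using QuotientGroup.induction_on with
        | _ a => exact (hcomap a).2 ((QuotientGroup.eq_one_iff a).1 ha)
      refine hne (eq_top_iff.2 fun x _ => (hcomap x).1 ?_)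
      rw [Subgroup.mem_center_iff]
      exact fun g => hab g _
    rw [← hmul, mul_comm]
    exact Nat.mul_le_mul_left _ (Nat.pow_le_pow_right hpp.pos hk2)
  have h1 := step i (c - 1 - i) (by omega)
  rw [Nat.add_sub_cancel' (by omega : i ≤ c - 1)] at h1
  have hup : p ^ (2 + (c - 1 - i)) * Nat.card (Subgroup.upperCentralSeries X i) ≤ p ^ n := by
    rw [pow_add, mul_assoc]
    exact (Nat.mul_le_mul_left _ h1).trans hlast
  have hlo := step 0 i (by omega)
  rw [Nat.zero_add, Subgroup.upperCentralSeries_zero, Subgroup.card_bot, mul_one] at hlo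
  refine le_antisymm ?_ hlo
  have hpow : p ^ n ≤ p ^ (2 + (c - 1 - i) + i) := Nat.pow_le_pow_right hpp.pos (by omega)
  rw [pow_add] at hpow
  exact Nat.le_of_mul_le_mul_left (hup.trans hpow) (pow_pos hpp.pos _)

theorem card_center {n : ℕ} (hX : Nat.card X = p ^ n) (hn : 3 ≤ n)
    (hmax : (⊤ : Subgroup X).lowerCentralSeries (n - 2) ≠ ⊥) :
    Nat.card (Subgroup.center X) = p := by
  have h := card_upperCentralSeries hX hn hmax (i := 1) (by omega)
  rwa [Subgroup.upperCentralSeries_one, pow_one] at h

omit [Fact p.Prime] [Finite X] in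
/-- Translation from a subgroup of an ambient group. -/
theorem top_lowerCentralSeries_ne_bot {Ω : Type*} [Group Ω] {S : Subgroup Ω} {k : ℕ}
    (h : Subgroup.lowerCentralSeries S k ≠ ⊥) :
    (⊤ : Subgroup S).lowerCentralSeries k ≠ ⊥ := fun h0 =>
  h (by rw [← Subgroup.top_subtype_lowerCentralSeries, h0, Subgroup.map_bot])

end CfsgLib.FusionMaxClass
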