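import Cfsg.Agent.Lib.FusionMaxClass.Layers

/-!
An elementary abelian self-centralizing subgroup of order `p ^ 3` with normalizer of order `p ^ 4`
inside a `p`-group of maximal class: its position relative to the lower central series, and the
impossibility of an automorphism of the group acting as a prescribed involution near it.
-/

set_option autoImplicit false
set_option linter.unusedSectionVars false

open Subgroup
open scoped commutatorElement Pointwise

namespace CfsgLib.FusionMaxClass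

open Cfsg.Agent.S3806 (MaxClass twoStep)
open CfsgLib.MaxClassUniform

universe u

variable {X : Type u} [Group X] [Finite X] {p n : ℕ} [Fact p.Prime]

local notation "L" => Subgroup.lowerCentralSeries (⊤ : Subgroup X)

theorem mem_of_zpow {y : X} (hy : y ^ p = 1) {H : Subgroup X} {k : ℤ} (h : y ^ k ∈ H)
    (h1 : y ^ k ≠ 1) : y ∈ H := by
  have hp : p.Prime := Fact.out
  have hk : ¬ (p : ℤ) ∣ k := by
    rintro ⟨i, rfl⟩
    exact h1 (by rw [zpow_mul, zpow_natCast, hy, one_zpow])
  obtain ⟨a, b, hab⟩ : IsCoprime (p : ℤ) k :=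
    (Nat.prime_iff_prime_int.1 hp).irreducible.coprime_iff_not_dvd.2 hk
  have : y = (y ^ k) ^ b := by
    rw [← zpow_mul]
    conv_lhs => rw [← zpow_one y, ← hab, zpow_add, mul_comm a, zpow_mul, zpow_natCast, hy, one_zpow,
      one_mul, mul_comm b]
  rw [this]
  exact zpow_mem h b

theorem sup_zpowers_eq {m : ℕ} (hX : Nat.card X = p ^ m) {H K : Subgroup X} (hHK : H ≤ K) {w : X}
    (hw : w ∈ K) (hw' : w ∉ H) (hc : Nat.card K ≤ p * Nat.card H) : H ⊔ zpowers w = K := by
  refine eq_of_le_of_card_ge (sup_le hHK (zpowers_le.2 hw)) (hc.trans ?_)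
  exact mul_card_le hX (lt_of_le_of_ne le_sup_left fun e =>
    hw' (e.ge (mem_sup_right (mem_zpowers w))))

theorem mem_normalizer_of_conj_le {H : Subgroup X} {g : X} (h : ∀ w ∈ H, g * w * g⁻¹ ∈ H) :
    g ∈ normalizer (H : Set X) := by
  have e : H.map (MulAut.conj g).toMonoidHom = H := by
    refine eq_of_le_of_card_ge ?_ (by rw [card_map_of_injective (MulAut.conj g).injective])
    rintro _ ⟨w, hw, rfl⟩
    exact h w hw
  refine mem_normalizer_iff.2 fun w => ⟨h w, fun hw => ?_⟩
  obtain ⟨v, hv, he⟩ := e.ge hw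
  exact (MulAut.conj g).injective he ▸ hv

theorem normal_of_one_le {H : Subgroup X} (h : L 1 ≤ H) : H.Normal := by
  refine ⟨fun x hx g => ?_⟩
  rw [show g * x * g⁻¹ = ⁅g, x⁆ * x by simp only [commutatorElement_def]; group]
  refine mul_mem (h ?_) hx
  rw [Subgroup.lowerCentralSeries_succ, Subgroup.lowerCentralSeries_zero]
  exact commutator_mem_commutator (mem_top _) (mem_top _)

theorem map_lcs_mem (β : MulAut X) {m : ℕ} {x : X} (hx : x ∈ L m) : β x ∈ L m :=
  (Subgroup.characteristic_iff_comap_eq.1 inferInstance β).ge hx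

theorem map_twoStep_mem (β : MulAut X) {i : ℕ} {x : X} (hx : x ∈ twoStep (S := X) i) :
    β x ∈ twoStep (S := X) i := by
  intro w hw
  have hw' : β⁻¹ w ∈ L i := map_lcs_mem β⁻¹ hw
  have := map_lcs_mem β (hx _ hw')
  rwa [map_commutatorElement β, MulAut.apply_inv_self] at this

/-- `β` acts on layer `i` by the scalar `w`. -/
def WeightMod (p : ℕ) (β : MulAut X) (i : ℕ) (w : ZMod p) : Prop :=
  ∃ ε : ℤ, Weight β i ε ∧ (ε : ZMod p) = w

theorem WeightMod.unique (h : MaxClass p n X) {β : MulAut X} {k : ℕ} (hk1 : 1 ≤ k)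
    (hk : k + 1 ≤ n - 1) {a b : ZMod p} (ha : WeightMod p β k a) (hb : WeightMod p β k b) : a = b := by
  obtain ⟨ε, hε, rfl⟩ := ha
  obtain ⟨δ, hδ, rfl⟩ := hb
  obtain ⟨y, hy, hy'⟩ := SetLike.exists_of_lt (h.lt (i := k) (by omega))
  have h1 := hε y hy
  have h2 := hδ y hy
  rw [← red_eq_one, map_mul, map_inv, inv_mul_eq_one, map_zpow] at h1 h2
  have h3 : red (k + 1) y ^ ε = red (k + 1) y ^ δ := h1.trans h2.symm
  rw [zpow_eq_zpow_iff_modEq] at h3
  obtain ⟨j, hj⟩ := (IsPGroup.of_card h.card).index (L (k + 1))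
  have hne : orderOf (red (k + 1) y) ≠ 1 := fun e => hy' (red_eq_one.1 (orderOf_eq_one_iff.1 e))
  have hdvd : orderOf (red (k + 1) y) ∣ p ^ j := by
    rw [← hj, Subgroup.index_eq_card]
    exact orderOf_dvd_natCard _
  obtain ⟨i, -, hi⟩ := (Nat.dvd_prime_pow Fact.out).1 hdvd
  have hp : p ∣ orderOf (red (k + 1) y) := by
    rcases Nat.eq_zero_or_pos i with rfl | hi0
    · exact absurd (by rw [hi, pow_zero]) hne
    · rw [hi]; exact dvd_pow_self p (by omega)
  exact (ZMod.intCast_eq_intCast_iff _ _ p).2 (h3.of_dvd (Int.natCast_dvd_natCast.2 hp))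

theorem WeightMod.step (h : MaxClass p n X) {β : MulAut X} {k : ℕ} {a : ZMod p} (hk : k + 2 ≤ n - 1)
    (hW : WeightMod p β k a) {g : X} {δ : ℤ} (hg : (g ^ δ)⁻¹ * β g ∈ twoStep (S := X) k)
    (hgk : g ∉ twoStep (S := X) k) : WeightMod p β (k + 1) (a * δ) := by
  obtain ⟨ε, hε, rfl⟩ := hW
  refine ⟨ε * δ, ?_, by push_cast; rfl⟩
  obtain ⟨y, hyx, hyx', hy, -⟩ := h.exists_gen (i := k) (by omega) hgk
  intro w hw
  obtain ⟨b, r, hr, rfl⟩ := exists_zpow h (k := k + 1) (by omega) (by omega) hyx hyx' hw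
  rw [← red_eq_one, map_mul, map_inv, inv_mul_eq_one]
  rw [map_mul β, map_mul, map_zpow, map_mul, red_eq_one.2 hr, mul_one,
    red_eq_one.2 (map_lcs_mem β hr), mul_one, map_zpow β, map_zpow, map_zpow, map_commutatorElement β]
  have e1 : β y = y ^ ε * ((y ^ ε)⁻¹ * β y) := by group
  have e2 : β g = g ^ δ * ((g ^ δ)⁻¹ * β g) := by group
  have hlow : red (k + 2) ⁅y ^ ε, (g ^ δ)⁻¹ * β g⁆ = 1 := red_eq_one.2 (hg _ (zpow_mem hy ε))
  rw [e1, e2, comm_mul_left (Subgroup.lowerCentralSeries_antitone _ k.le_succ (hε y hy)) _,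
    comm_low_left (hε y hy), mul_one, comm_mul_right (zpow_mem hy ε),
    hlow, mul_one, comm_zpow_left hy, comm_zpow_right hy, ← zpow_mul,
    ← zpow_mul, ← zpow_mul]
  congr 1
  ring

theorem comm_gen_notMem (h : MaxClass p n X) {e s : X} (he : e ∉ L 1) (hs : s ∉ zpowers e ⊔ L 1) :
    ⁅e, s⁆ ∉ L 2 := by
  intro hc
  refine notMem_zero h he fun w _ => ?_
  have hK := eq_of_sup_eq_top h he hs (K := commMod (L 2) e)
    (mem_commMod.2 (by rw [commutatorElement_self]; exact one_mem _))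
    (mem_commMod.2 (by rw [← commutatorElement_inv]; exact inv_mem hc))
  exact mem_commMod.1 (by rw [hK]; exact mem_top w)

theorem WeightMod.one_of_gen (h : MaxClass p n X) {β : MulAut X} {e s : X} {k l : ℤ} (he : e ∉ L 1)
    (hs : s ∉ zpowers e ⊔ L 1) (hbe : (e ^ k)⁻¹ * β e ∈ L 1) (hbs : (s ^ l)⁻¹ * β s ∈ zpowers e ⊔ L 1)
    (hn : 4 ≤ n) : WeightMod p β 1 ((k : ZMod p) * l) := by
  refine ⟨k * l, ?_, by push_cast; rfl⟩
  obtain ⟨u, hu, m, hm, hum⟩ := mem_sup_of_normal_right.1 hbs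
  obtain ⟨j, rfl⟩ := mem_zpowers_iff.1 hu
  intro w hw
  have he0 : e ∈ L 0 := by simp
  have hy : ⁅e, s⁆ ∈ L 1 := comm_mem_succ he0 s
  obtain ⟨b, r, hr, rfl⟩ := exists_zpow h (k := 1) le_rfl (by omega) hy (comm_gen_notMem h he hs) hw
  rw [← red_eq_one, map_mul, map_inv, inv_mul_eq_one]
  rw [map_mul β, map_mul, map_zpow, map_mul, red_eq_one.2 hr, mul_one,
    red_eq_one.2 (map_lcs_mem β hr), mul_one, map_zpow β, map_zpow, map_zpow, map_commutatorElement β]
  have e1 : β e = e ^ k * ((e ^ k)⁻¹ * β e) := by group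
  have e2 : β s = s ^ l * (e ^ j * m) := by rw [hum]; group
  have hek : e ^ k ∈ L 0 := by simp
  have hee : red (0 + 2) ⁅e ^ k, e ^ j⁆ = 1 := by
    rw [commutatorElement_eq_one_iff_mul_comm.2 (Commute.zpow_zpow_self e k j).eq, map_one]
  rw [e1, e2]
  show (red (0 + 2) ⁅e, s⁆ ^ b) ^ (k * l) = red (0 + 2) _ ^ b
  rw [comm_mul_left (k := 0) (by simp) _, comm_low_left hbe, mul_one, comm_mul_right hek,
    comm_mul_right hek, comm_low_right hek hm, hee, mul_one, mul_one, comm_zpow_left he0,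
    comm_zpow_right he0, ← zpow_mul, ← zpow_mul, ← zpow_mul]
  congr 1
  ring

/-- The configuration. -/
structure CubeConfig (p n : ℕ) (E : Subgroup X) (x e z c : X) : Prop where
  mc : MaxClass p n X
  five : 5 ≤ n
  cardE : Nat.card E = p ^ 3
  comm : ∀ a ∈ E, ∀ b ∈ E, a * b = b * a
  exp : ∀ a ∈ E, a ^ p = 1
  cen : ∀ g : X, (∀ s : X, s * g = g * s) → g ∈ E
  cardN : Nat.card (normalizer (E : Set X)) = p ^ 4
  cardA : Nat.card (zpowers z ⊔ zpowers c : Subgroup X) = p ^ 2
  xN : x ∈ normalizer (E : Set X)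
  xE : x ∉ E
  eE : e ∈ E
  zE : z ∈ E
  cE : c ∈ E
  z1 : z ≠ 1
  cz : c ∉ zpowers z
  eA : e ∉ zpowers z ⊔ zpowers c
  xe : x * e * x⁻¹ = e * z
  decomp : ∀ g ∈ normalizer (E : Set X), ∃ w ∈ E, ∃ i : ℤ, g = w * x ^ i
  central : ∀ a ∈ zpowers z ⊔ zpowers c, ∀ g ∈ normalizer (E : Set X), g * a = a * g
  cent : ∀ w ∈ E, w ∉ zpowers z ⊔ zpowers c → ∀ g : X, g * w = w * g → g ∈ E

namespace CubeConfig

variable {E : Subgroup X} {x e z c : X}

local notation "A" => (zpowers z ⊔ zpowers c : Subgroup _)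
local notation "N" => normalizer (E : Set X)

theorem A_le (C : CubeConfig p n E x e z c) : A ≤ E := sup_le (zpowers_le.2 C.zE) (zpowers_le.2 C.cE)

theorem E_le (C : CubeConfig p n E x e z c) : E ≤ N := le_normalizer

theorem sup_e (C : CubeConfig p n E x e z c) : A ⊔ zpowers e = E :=
  sup_zpowers_eq C.mc.card C.A_le C.eE C.eA (by rw [C.cardA, C.cardE, ← pow_succ'])

theorem exists_A (C : CubeConfig p n E x e z c) {a : X} (ha : a ∈ A) :
    ∃ i j : ℤ, a = z ^ i * c ^ j := by
  have hle : A ≤ normalizer (zpowers z : Set X) ⊔ ⊥ := by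
    rw [sup_bot_eq]
    refine sup_le le_normalizer (zpowers_le.2 (mem_normalizer_of_conj_le ?_))
    intro w hw
    rw [C.comm c C.cE w (zpowers_le.2 C.zE hw), mul_inv_cancel_right]
    exact hw
  rw [sup_bot_eq] at hle
  have h1 : a ∈ ((zpowers z : Set X) * (zpowers c : Set X)) := by
    rw [← coe_mul_of_right_le_normalizer_left _ _ ((le_sup_right).trans hle)]
    exact ha
  obtain ⟨u, hu, v, hv, rfl⟩ := h1
  obtain ⟨i, rfl⟩ := mem_zpowers_iff.1 hu
  obtain ⟨j, rfl⟩ := mem_zpowers_iff.1 hv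
  exact ⟨i, j, rfl⟩

theorem one_le (C : CubeConfig p n E x e z c) : 1 ≤ p := (Fact.out : p.Prime).one_le

theorem false_of_le (C : CubeConfig p n E x e z c) (h : ∀ g : X, g ∈ N) : False := by
  have hp : p.Prime := Fact.out
  have : Nat.card X ≤ p ^ 4 := by
    rw [← C.cardN, ← Subgroup.card_top (G := X)]
    exact card_le_of_le fun g _ => h g
  rw [C.mc.card, Nat.pow_le_pow_iff_right hp.one_lt] at this
  have := C.five
  omega

theorem last_le (C : CubeConfig p n E x e z c) : L (n - 2) ≤ A := by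
  intro w hw
  by_contra hwA
  have hc : ∀ s, s * w = w * s := fun s => ((last_le_center C.mc hw s).eq).symm
  exact C.false_of_le fun g => C.E_le (C.cent w (C.cen w hc) hwA g (hc g))

theorem conj_zpow (C : CubeConfig p n E x e z c) (i : ℤ) : x ^ i * e * (x ^ i)⁻¹ = e * z ^ i := by
  have hxz : Commute x z := C.central z (mem_sup_left (mem_zpowers z)) x C.xN
  induction i using Int.induction_on with
  | zero => simp
  | succ k ih =>
    rw [show x ^ ((k : ℤ) + 1) * e * (x ^ ((k : ℤ) + 1))⁻¹ = x * (x ^ (k : ℤ) * e * (x ^ (k : ℤ))⁻¹) * x⁻¹ by group,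
      ih, show x * (e * z ^ (k : ℤ)) * x⁻¹ = x * e * x⁻¹ * (x * z ^ (k : ℤ) * x⁻¹) by group,
      C.xe, (hxz.zpow_right k).eq, mul_inv_cancel_right]
    group
  | pred k ih =>
    have h1 : x⁻¹ * e * x = e * z⁻¹ := by
      have e1 : x⁻¹ * z⁻¹ * x = z⁻¹ := by rw [(hxz.inv_inv).eq, inv_mul_cancel_right]
      have e2 : e = x * (e * z⁻¹) * x⁻¹ := by
        rw [show x * (e * z⁻¹) * x⁻¹ = x * e * x⁻¹ * (x * z⁻¹ * x⁻¹) by group, C.xe,
          (hxz.inv_right).eq, mul_inv_cancel_right, mul_inv_cancel_right]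
      conv_lhs => rw [e2]
      group
    rw [show x ^ (-(k : ℤ) - 1) * e * (x ^ (-(k : ℤ) - 1))⁻¹ =
        x⁻¹ * (x ^ (-(k : ℤ)) * e * (x ^ (-(k : ℤ)))⁻¹) * x by group,
      ih, show x⁻¹ * (e * z ^ (-(k : ℤ))) * x = x⁻¹ * e * x * (x⁻¹ * z ^ (-(k : ℤ)) * x) by group,
      h1, ((hxz.inv_left).zpow_right (-(k : ℤ))).eq, inv_mul_cancel_right]
    group

theorem comm_z (C : CubeConfig p n E x e z c) {g w : X} (hg : g ∈ N) (hw : w ∈ E) :
    ⁅g, w⁆ ∈ zpowers z := by
  obtain ⟨u, hu, i, rfl⟩ := C.decomp g hg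
  have hz : ∀ k : ℤ, z ^ k ∈ E := fun k => zpow_mem C.zE k
  have hmain : ∀ v ∈ E, ∃ m : ℤ, x ^ i * v * (x ^ i)⁻¹ = v * z ^ m := by
    intro v hv
    rw [← C.sup_e] at hv
    let K : Subgroup X :=
      { carrier := {v | v ∈ E ∧ ∃ m : ℤ, x ^ i * v * (x ^ i)⁻¹ = v * z ^ m}
        one_mem' := ⟨one_mem _, 0, by simp⟩
        mul_mem' := fun {a b} ⟨ha, m, hm⟩ ⟨hb, l, hl⟩ => ⟨mul_mem ha hb, m + l, by
          rw [show x ^ i * (a * b) * (x ^ i)⁻¹ = x ^ i * a * (x ^ i)⁻¹ * (x ^ i * b * (x ^ i)⁻¹) by group,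
            hm, hl, mul_assoc a, ← mul_assoc (z ^ m), C.comm _ (hz m) b hb, zpow_add]
          group⟩
        inv_mem' := fun {a} ⟨ha, m, hm⟩ => ⟨inv_mem ha, -m, by
          rw [show x ^ i * a⁻¹ * (x ^ i)⁻¹ = (x ^ i * a * (x ^ i)⁻¹)⁻¹ by group, hm,
            C.comm a ha _ (hz m)]
          group⟩ }
    have hle : A ⊔ zpowers e ≤ K :=
      sup_le (fun a ha => ⟨C.A_le ha, 0, by
        rw [C.central a ha _ (zpow_mem C.xN i), zpow_zero, mul_one, mul_inv_cancel_right]⟩)
        (zpowers_le.2 ⟨C.eE, i, C.conj_zpow i⟩)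
    exact (hle hv).2
  obtain ⟨m, hm⟩ := hmain w hw
  refine ⟨m, ?_⟩
  show z ^ m = _
  rw [commutatorElement_def, show u * x ^ i * w * (u * x ^ i)⁻¹ = u * (x ^ i * w * (x ^ i)⁻¹) * u⁻¹ by group,
    hm, C.comm u hu _ (mul_mem hw (hz m)), mul_inv_cancel_right, C.comm w hw _ (hz m), mul_inv_cancel_right]

theorem second_le (C : CubeConfig p n E x e z c) : L (n - 3) ≤ N := fun g hg =>
  mem_normalizer_of_conj_le fun w hw => by
    rw [show g * w * g⁻¹ = ⁅g, w⁆ * w by simp only [commutatorElement_def]; group]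
    refine mul_mem (C.A_le (C.last_le ?_)) hw
    rw [show n - 2 = n - 3 + 1 by have := C.five; omega]
    exact comm_mem_succ hg w

theorem not_uniform (C : CubeConfig p n E x e z c) {w : X} (hw : w ∈ E) : ¬ Uniform n w := by
  intro hu
  have hle : E ≤ centralizer ({w} : Set X) := fun g hg =>
    mem_centralizer_singleton_iff.2 (C.comm g hg w hw)
  have := (card_le_of_le hle).trans (hu.card_centralizer C.mc)
  rw [C.cardE, Nat.pow_le_pow_iff_right (Fact.out : p.Prime).one_lt] at this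
  omega

theorem sup_one_ne_top (C : CubeConfig p n E x e z c) : E ⊔ L 1 ≠ ⊤ := by
  intro htop
  have h := C.mc
  have hne : (⊥ : Subgroup X) ≠ ⊤ := fun e => by
    have hc := h.card
    rw [← Subgroup.card_top (G := X), ← e, Subgroup.card_bot] at hc
    have := Nat.one_lt_pow (by have := C.five; omega : n ≠ 0) (Fact.out : p.Prime).one_lt
    omega
  obtain ⟨s, hs, -⟩ := exists_uniform h (⊥ : Subgroup X) hne
  obtain ⟨w, hw, l, hl, hwl⟩ := mem_sup_of_normal_right.1 (htop.ge (mem_top s))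
  refine C.not_uniform hw (hs.of_mem h ?_ fun hc => hs.notMem (hwl ▸ mul_mem hc hl))
  rw [show w = s * l⁻¹ by rw [← hwl, mul_inv_cancel_right]]
  exact mul_mem (mem_sup_left (mem_zpowers s)) (mem_sup_right (inv_mem hl))

theorem second_eq (C : CubeConfig p n E x e z c) (h2 : L (n - 3) ≤ E) : L (n - 3) = A := by
  have h := C.mc
  have h5 := C.five
  refine eq_of_le_of_card_ge (fun w hw => ?_) (by rw [C.cardA, h.card_layer (by omega) (by omega), show n - 1 - (n - 3) = 2 by omega])
  by_contra hwA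
  have h1 : L 1 ≤ E := fun g hg => C.cent w (h2 hw) hwA g (by
    rw [← commutatorElement_eq_one_iff_mul_comm, ← mem_bot, ← h.top, ← commutatorElement_inv, inv_mem_iff]
    exact comm_lcs hw hg (by omega))
  have hle := card_le_of_le h1
  rw [h.card_one, C.cardE, Nat.pow_le_pow_iff_right (Fact.out : p.Prime).one_lt] at hle
  have heq : L 1 = E := eq_of_le_of_card_ge h1 (by rw [C.cardE, h.card_one, show n - 2 = 3 by omega])
  refine C.false_of_le fun g => mem_normalizer_of_conj_le fun v hv => ?_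
  rw [← heq] at hv ⊢
  exact (lcsNormal 1).conj_mem v hv g

theorem e_notMem_of_second_le (C : CubeConfig p n E x e z c) (h2 : L (n - 3) ≤ E) : e ∉ L 1 := by
  intro he
  have h := C.mc
  have h5 := C.five
  have hA := C.second_eq h2
  have hE1 : E ≤ L 1 := by
    rw [← C.sup_e]
    exact sup_le (hA ▸ Subgroup.lowerCentralSeries_antitone _ (by omega)) (zpowers_le.2 he)
  have h4 : L (n - 5) ≤ N := fun g hg => mem_normalizer_of_conj_le fun w hw => by
    rw [show g * w * g⁻¹ = ⁅g, w⁆ * w by simp only [commutatorElement_def]; group]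
    exact mul_mem (h2 (comm_lcs hg (hE1 hw) (by omega))) hw
  rcases Nat.eq_or_lt_of_le h5 with h5' | h5'
  · refine C.false_of_le fun g => h4 ?_
    rw [show n - 5 = 0 by omega, Subgroup.lowerCentralSeries_zero]
    exact mem_top g
  have hN : L (n - 5) = N := eq_of_le_of_card_ge h4 (by
    rw [C.cardN, h.card_layer (by omega) (by omega), show n - 1 - (n - 5) = 4 by omega])
  obtain ⟨a, ha, haL⟩ := exists_mem_twoStep h (i := n - 5) (by omega) (by omega)
  have haN : a ∈ N := mem_normalizer_of_conj_le fun w hw => by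
    rw [show a * w * a⁻¹ = ⁅a, w⁆ * w by simp only [commutatorElement_def]; group]
    refine mul_mem (h2 ?_) hw
    have := ha w (hN.ge (C.E_le hw))
    rw [show n - 5 + 2 = n - 3 by omega] at this
    rw [← commutatorElement_inv]
    exact inv_mem this
  rw [← hN] at haN
  exact haL (Subgroup.lowerCentralSeries_antitone _ (by omega) haN)

section SecondNotLe

variable (C : CubeConfig p n E x e z c) (h2 : ¬ Subgroup.lowerCentralSeries (⊤ : Subgroup X) (n - 3) ≤ E)
include C h2

theorem z_mem_last : z ∈ L (n - 2) := by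
  obtain ⟨b, hb, hbE⟩ := SetLike.not_le_iff_exists.1 h2
  obtain ⟨k, hk⟩ := mem_zpowers_iff.1 (C.comm_z (C.second_le hb) C.eE)
  refine mem_of_zpow (p := p) (C.exp z C.zE) (k := k) ?_ fun h1 => hbE ?_
  · rw [hk, show n - 2 = n - 3 + 1 by have := C.five; omega]
    exact comm_mem_succ hb e
  · rw [hk, commutatorElement_eq_one_iff_mul_comm] at h1
    exact C.cent e C.eE C.eA b h1

theorem notMem_last_twoStep {w : X} (hw : w ∈ E) (hwA : w ∉ A) : w ∉ twoStep (S := X) (n - 3) := by
  intro hc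
  obtain ⟨b, hb, hbE⟩ := SetLike.not_le_iff_exists.1 h2
  refine hbE (C.cent w hw hwA b ?_)
  have := hc b hb
  rw [show n - 3 + 2 = n - 1 by have := C.five; omega, C.mc.top, mem_bot,
    commutatorElement_eq_one_iff_mul_comm] at this
  exact this

theorem A_le_last_twoStep : A ≤ twoStep (S := X) (n - 3) := fun a ha b hb => by
  rw [commutatorElement_eq_one_iff_mul_comm.2 (C.central a ha b (C.second_le hb))]
  exact one_mem _

theorem A_le_one : A ≤ L 1 := by
  have h5 := C.five
  refine sup_le (zpowers_le.2 (Subgroup.lowerCentralSeries_antitone _ (by omega) (C.z_mem_last h2)))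
    (zpowers_le.2 ?_)
  by_contra hc
  refine C.sup_one_ne_top (eq_of_sup_eq_top C.mc hc ?_ (mem_sup_left C.cE) (mem_sup_left C.eE))
  intro he
  exact C.notMem_last_twoStep h2 C.eE C.eA
    (sup_le (zpowers_le.2 (C.A_le_last_twoStep h2 (mem_sup_right (mem_zpowers c)))) (one_le_twoStep _) he)

theorem e_notMem : e ∉ L 1 := fun he => C.notMem_last_twoStep h2 C.eE C.eA (one_le_twoStep _ he)

theorem exists_twoStep : ∃ j, 1 ≤ j ∧ j + 4 ≤ n ∧ e ∈ twoStep (S := X) j := by
  by_contra hh
  push Not at hh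
  refine C.not_uniform C.eE ⟨C.e_notMem h2, fun i hi hin => ?_⟩
  by_cases h4 : i + 4 ≤ n
  · exact hh i hi h4
  · rw [show i = n - 3 by omega]
    exact C.notMem_last_twoStep h2 C.eE C.eA

theorem pow_coset {y : X} (hy : y ∈ L 1) : (e * y) ^ p = 1 := by
  classical
  have h := C.mc
  have hp : p.Prime := Fact.out
  have := Fintype.ofFinite X
  have := Fintype.ofFinite (A : Subgroup X)
  have := Fintype.ofFinite (L 1)
  have hA1 := C.A_le_one h2
  have hf : ∀ (g : X) (a : (A : Subgroup X)), e⁻¹ * (g * (e * (a : X)) * g⁻¹) ∈ L 1 := fun g a => by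
    rw [show e⁻¹ * (g * (e * (a : X)) * g⁻¹) = ⁅e⁻¹, g⁆ * (g * (a : X) * g⁻¹) by
      simp only [commutatorElement_def]; group]
    exact mul_mem (comm_mem_succ (by simp) g) ((lcsNormal 1).conj_mem _ (hA1 a.2) g)
  let f : X × (A : Subgroup X) → L 1 := fun ga => ⟨_, hf ga.1 ga.2⟩
  have hwE : ∀ a : (A : Subgroup X), e * (a : X) ∈ E ∧ e * (a : X) ∉ A := fun a =>
    ⟨mul_mem C.eE (C.A_le a.2), fun hc => C.eA (by simpa using mul_mem hc (inv_mem a.2))⟩
  have hfib : ∀ t ∈ Finset.univ.image f,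
      ((Finset.univ : Finset (X × (A : Subgroup X))).filter fun ga => f ga = t).card ≤ p ^ 4 := by
    intro t ht
    obtain ⟨⟨g0, a0⟩, -, rfl⟩ := Finset.mem_image.1 ht
    rw [← C.cardN, Nat.card_eq_fintype_card, Fintype.card_subtype]
    refine Finset.card_le_card_of_injOn (fun ga => g0⁻¹ * ga.1) ?_ ?_
    · rintro ⟨g, a⟩ hga
      refine Finset.mem_filter.2 ⟨Finset.mem_univ _, ?_⟩
      have h0 : g * (e * (a : X)) * g⁻¹ = g0 * (e * (a0 : X)) * g0⁻¹ :=
        mul_left_cancel (congrArg Subtype.val (Finset.mem_filter.1 hga).2)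
      set k := g0⁻¹ * g
      have hk : k * (e * (a : X)) * k⁻¹ = e * (a0 : X) := by
        calc k * (e * (a : X)) * k⁻¹ = g0⁻¹ * (g * (e * (a : X)) * g⁻¹) * g0 := by simp only [k]; group
          _ = e * (a0 : X) := by rw [h0]; group
      show k ∈ normalizer (E : Set X)
      clear_value k
      refine mem_normalizer_of_conj_le fun v hv => C.cent _ (hwE a0).1 (hwE a0).2 _ ?_
      rw [← hk, show k * v * k⁻¹ * (k * (e * (a : X)) * k⁻¹) = k * (v * (e * (a : X))) * k⁻¹ by group,
        C.comm v hv _ (hwE a).1]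
      group
    · rintro ⟨g, a⟩ hga ⟨g', a'⟩ hga' heq
      obtain rfl : g = g' := mul_left_cancel heq
      have h0 : g * (e * (a : X)) * g⁻¹ = g * (e * (a' : X)) * g⁻¹ :=
        (mul_left_cancel (congrArg Subtype.val (Finset.mem_filter.1 hga).2)).trans
          (mul_left_cancel (congrArg Subtype.val (Finset.mem_filter.1 hga').2)).symm
      rw [show a = a' from Subtype.ext (mul_left_cancel (mul_left_cancel (mul_right_cancel h0)))]
  have h1 := Finset.card_le_mul_card_image (Finset.univ : Finset (X × (A : Subgroup X))) (p ^ 4) hfib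
  have e' : Finset.univ.image f = Finset.univ := by
    refine Finset.eq_univ_of_card _ (le_antisymm (Finset.card_le_univ _) ?_)
    rw [Finset.card_univ, Fintype.card_prod, ← Nat.card_eq_fintype_card (α := X),
      ← Nat.card_eq_fintype_card (α := (A : Subgroup X)), h.card, C.cardA, ← pow_add,
      show n + 2 = 4 + (n - 2) by have := C.five; omega, pow_add] at h1
    rw [← Nat.card_eq_fintype_card, h.card_one]
    exact Nat.le_of_mul_le_mul_left h1 (pow_pos hp.pos 4)
  obtain ⟨⟨g, a⟩, -, hga⟩ := Finset.mem_image.1 (e' ▸ Finset.mem_univ (⟨y, hy⟩ : L 1) :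
    (⟨y, hy⟩ : L 1) ∈ Finset.univ.image f)
  have hga' : e⁻¹ * (g * (e * (a : X)) * g⁻¹) = y := congrArg Subtype.val hga
  rw [← hga', mul_inv_cancel_left, conj_pow, C.exp _ (hwE a).1, mul_one, mul_inv_cancel]

theorem le_prime : n ≤ p + 1 := by
  have h := C.mc
  have hp : p.Prime := Fact.out
  by_contra hn
  obtain ⟨j, hj1, hj4, hje⟩ := C.exists_twoStep h2
  set k := min j (n - 1 - p) with hk_def
  have hk1 : 1 ≤ k := by omega
  obtain ⟨y, hy, hy'⟩ := SetLike.exists_of_lt (h.lt (i := k) (by omega))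
  have hne : (⊥ : Subgroup X) ≠ ⊤ := fun e => by
    have hc := h.card
    rw [← Subgroup.card_top (G := X), ← e, Subgroup.card_bot] at hc
    have := Nat.one_lt_pow (by omega : n ≠ 0) hp.one_lt
    omega
  obtain ⟨s, hs, -⟩ := exists_uniform h (⊥ : Subgroup X) hne
  set H := closure ({e, y} : Set X)
  let T : ℕ → Subgroup X := fun m => if k + m ≤ j then L (k + m) else L (k + m + 1)
  have hTn : ∀ m, (T m).Normal := fun m => by
    simp only [T]
    split_ifs <;> infer_instance
  have hye : ∀ m, k + m ≤ j → ∀ v ∈ L (k + m), ⁅v, e⁆ ∈ T (m + 1) := by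
    intro m hm v hv
    simp only [T]
    split_ifs with h3
    · exact Subgroup.lowerCentralSeries_antitone _ (by omega) (comm_mem_succ hv e)
    · have := hje v (by rwa [show j = k + m by omega])
      rwa [show j + 2 = k + (m + 1) + 1 by omega] at this
  have hH1 : ⁅H, H⁆ ≤ T 1 := by
    haveI := hTn 1
    refine commutator_closure_le _ ?_
    have hey := hye 0 (by omega) y (by simpa using hy)
    simp only [Set.mem_insert_iff, Set.mem_singleton_iff]
    rintro a (rfl | rfl) b (rfl | rfl)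
    · rw [commutatorElement_self]; exact one_mem _
    · rw [← commutatorElement_inv]; exact inv_mem hey
    · exact hey
    · rw [commutatorElement_self]; exact one_mem _
  have hstep : ∀ m, 1 ≤ m → ⁅T m, H⁆ ≤ T (m + 1) := by
    intro m hm
    haveI := hTn (m + 1)
    rw [← Subgroup.closure_eq (T m)]
    refine commutator_closure_le _ ?_
    intro a ha b hb
    have ha' : a ∈ T m := ha
    simp only [T] at ha'
    split_ifs at ha' with h3
    · simp only [Set.mem_insert_iff, Set.mem_singleton_iff] at hb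
      rcases hb with rfl | rfl
      · exact hye m h3 a ha'
      · simp only [T]
        split_ifs
        · exact comm_lcs ha' hy (by omega)
        · exact comm_lcs ha' hy (by omega)
    · simp only [T]
      rw [if_neg (by omega)]
      exact Subgroup.lowerCentralSeries_antitone _ (by omega) (comm_mem_succ ha' b)
  have hcl : H.lowerCentralSeries (p - 1) ≤ L (k + p) := by
    refine (lcs_subgroup_le H T hH1 hstep _ (by have := hp.two_le; omega)).trans ?_
    simp only [T]
    have := hp.two_le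
    rw [if_neg (by omega)]
    exact Subgroup.lowerCentralSeries_antitone _ (by omega)
  have hm := mul_pow_mem H (L (k + p)) hcl (fun a ha => by
    have ha1 := hH1 ha
    have ha2 : a ∈ L (k + 1) := by
      simp only [T] at ha1
      split_ifs at ha1
      · exact ha1
      · exact Subgroup.lowerCentralSeries_antitone _ (by omega) ha1
    exact Subgroup.lowerCentralSeries_antitone _ (by omega) (hs.pow_mem_layer h (k + 1) (by omega) a ha2))
    (subset_closure (Set.mem_insert e _)) (subset_closure (Set.mem_insert_of_mem e rfl) : y ∈ H)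
  rw [C.exp e C.eE, C.pow_coset h2 (Subgroup.lowerCentralSeries_antitone _ hk1 hy), one_mul, mul_one,
    inv_mem_iff] at hm
  exact hs.pow_notMem h hk1 (by omega) hy hy' hm

theorem mem_twoStep_all {i : ℕ} (hi : 1 ≤ i) (hi4 : i + 4 ≤ n) : e ∈ twoStep (S := X) i := by
  obtain ⟨j, hj1, hj4, hje⟩ := C.exists_twoStep h2
  rw [twoStep_const C.mc (C.le_prime h2) i hi hi4, ← twoStep_const C.mc (C.le_prime h2) j hj1 hj4]
  exact hje

end SecondNotLe

theorem position (C : CubeConfig p n E x e z c) :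
    e ∉ L 1 ∧ A ≤ L 1 ∧ L (n - 4) ≤ N := by
  have h5 := C.five
  by_cases h2 : L (n - 3) ≤ E
  · refine ⟨C.e_notMem_of_second_le h2, (C.second_eq h2).symm ▸ Subgroup.lowerCentralSeries_antitone _ (by omega), ?_⟩
    intro g hg
    refine mem_normalizer_of_conj_le fun w hw => ?_
    rw [show g * w * g⁻¹ = ⁅g, w⁆ * w by simp only [commutatorElement_def]; group]
    refine mul_mem (h2 ?_) hw
    rw [show n - 3 = n - 4 + 1 by omega]
    exact comm_mem_succ hg w
  · refine ⟨C.e_notMem h2, C.A_le_one h2, fun g hg => mem_normalizer_of_conj_le fun w hw => ?_⟩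
    have hle : E ≤ commMod (L (n - 2)) g := by
      rw [← C.sup_e]
      refine sup_le (fun a ha => mem_commMod.2 ?_) (zpowers_le.2 (mem_commMod.2 ?_))
      · rw [← commutatorElement_inv, inv_mem_iff]
        exact comm_lcs hg (C.A_le_one h2 ha) (by omega)
      · have := C.mem_twoStep_all h2 (i := n - 4) (by omega) (by omega) g hg
        rw [show n - 4 + 2 = n - 2 by omega] at this
        rw [← commutatorElement_inv, inv_mem_iff]
        exact this
    rw [show g * w * g⁻¹ = ⁅w, g⁆⁻¹ * w by simp only [commutatorElement_def]; group]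
    exact mul_mem (inv_mem (C.A_le (C.last_le (mem_commMod.1 (hle hw))))) hw

theorem inter_one (C : CubeConfig p n E x e z c) {w : X} (hw : w ∈ E) (hw1 : w ∈ L 1) : w ∈ A := by
  by_contra hwA
  refine C.position.1 ?_
  have h1 := sup_zpowers_eq C.mc.card C.A_le hw hwA (by rw [C.cardA, C.cardE, ← pow_succ'])
  exact (sup_le C.position.2.1 (zpowers_le.2 hw1)) (h1.ge C.eE)

theorem normalizer_inf (C : CubeConfig p n E x e z c) : N ⊓ L 1 = L (n - 4) := by
  have h := C.mc
  have h5 := C.five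
  have hlt : N ⊓ L 1 < N :=
    lt_of_le_of_ne inf_le_left fun e' => C.position.1 (e'.ge (C.E_le C.eE)).2
  have h1 := mul_card_le h.card hlt
  rw [C.cardN, pow_succ'] at h1
  refine (eq_of_le_of_card_ge (le_inf C.position.2.2 (Subgroup.lowerCentralSeries_antitone _ (by omega))) ?_).symm
  rw [h.card_layer (by omega) (by omega), show n - 1 - (n - 4) = 3 by omega]
  exact Nat.le_of_mul_le_mul_left h1 (Fact.out : p.Prime).pos

theorem A_le_third (C : CubeConfig p n E x e z c) : A ≤ L (n - 4) := by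
  rw [← C.normalizer_inf]
  exact le_inf (C.A_le.trans C.E_le) C.position.2.1

theorem third_sup (C : CubeConfig p n E x e z c) {w : X} (hw : w ∈ N) (hw' : w ∉ L (n - 4)) :
    L (n - 4) ⊔ zpowers w = N := by
  have h5 := C.five
  refine sup_zpowers_eq C.mc.card C.position.2.2 hw hw' ?_
  rw [C.cardN, C.mc.card_layer (by omega) (by omega), show n - 1 - (n - 4) = 3 by omega, ← pow_succ']

theorem center_normalizer (C : CubeConfig p n E x e z c) {g : X} (hg : ∀ h ∈ N, h * g = g * h) : g ∈ A := by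
  have hgE : g ∈ E := C.cent e C.eE C.eA g (hg e (C.E_le C.eE)).symm
  by_contra hgA
  exact C.xE (C.cent g hgE hgA x (hg x C.xN))

theorem conj_A (C : CubeConfig p n E x e z c) {t : X} (ht : t ∈ normalizer (N : Set X)) {a : X}
    (ha : a ∈ A) : t * a * t⁻¹ ∈ A := by
  refine C.center_normalizer fun h hh => ?_
  have hh' : t⁻¹ * h * t ∈ N := by
    have := (mem_normalizer_iff.1 (inv_mem ht) h).1 hh
    rwa [inv_inv] at this
  calc h * (t * a * t⁻¹) = t * (t⁻¹ * h * t * a) * t⁻¹ := by group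
    _ = t * (a * (t⁻¹ * h * t)) * t⁻¹ := by rw [C.central a ha _ hh']
    _ = t * a * t⁻¹ * h := by group

theorem comm_third (C : CubeConfig p n E x e z c) {t : X} (ht : t ∈ normalizer (N : Set X)) {b : X}
    (hb : b ∈ L (n - 4)) : ⁅b, t⁆ ∈ A := by
  have h := C.mc
  have h5 := C.five
  by_cases h2 : L (n - 3) ≤ E
  · rw [← C.second_eq h2, show n - 3 = n - 4 + 1 by omega]
    exact comm_mem_succ hb t
  refine C.last_le (mem_commMod.1 (?_ : b ∈ commMod (L (n - 2)) t))
  have hinf : L (n - 3) ⊓ E ≤ L (n - 2) := by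
    have hle : L (n - 2) ≤ L (n - 3) ⊓ E :=
      le_inf (Subgroup.lowerCentralSeries_antitone _ (by omega)) (C.last_le.trans C.A_le)
    refine (eq_of_le_of_card_ge hle ?_).ge
    have h1 := mul_card_le h.card (lt_of_le_of_ne (inf_le_left : L (n - 3) ⊓ E ≤ _) fun e' => h2 (inf_eq_left.1 e'))
    rw [h.card_layer (i := n - 3) (by omega) (by omega), show n - 1 - (n - 3) = 2 by omega, pow_two] at h1
    rw [h.card_layer (by omega) (by omega), show n - 1 - (n - 2) = 1 by omega, pow_one]
    exact Nat.le_of_mul_le_mul_left h1 (Fact.out : p.Prime).pos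
  have hle : A ⊔ L (n - 3) ≤ commMod (L (n - 2)) t := by
    refine sup_le (fun a ha => mem_commMod.2 (hinf ⟨?_, C.A_le ?_⟩)) fun w hw => mem_commMod.2 ?_
    · rw [show n - 3 = n - 4 + 1 by omega]
      exact comm_mem_succ (C.A_le_third ha) t
    · rw [show ⁅a, t⁆ = a * (t * a⁻¹ * t⁻¹) by simp only [commutatorElement_def]; group]
      exact mul_mem ha (C.conj_A ht (inv_mem ha))
    · rw [show n - 2 = n - 3 + 1 by omega]
      exact comm_mem_succ hw t
  refine hle ?_
  have hlt : A < A ⊔ L (n - 3) := lt_of_le_of_ne le_sup_left fun e' =>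
    h2 ((le_sup_right.trans e'.ge).trans C.A_le)
  have h1 := mul_card_le h.card hlt
  rw [C.cardA, ← pow_succ'] at h1
  have heq : A ⊔ L (n - 3) = L (n - 4) := eq_of_le_of_card_ge
    (sup_le C.A_le_third (Subgroup.lowerCentralSeries_antitone _ (by omega)))
    (by rwa [h.card_layer (i := n - 4) (by omega) (by omega), show n - 1 - (n - 4) = 2 + 1 by omega])
  exact heq.ge hb

/-- The maximal subgroups of the normalizer over its centre, other than the layer, are conjugate to `E`. -/
theorem orbit (C : CubeConfig p n E x e z c) {K : Subgroup X} (hKN : K ≤ N) (hKc : Nat.card K = p ^ 3)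
    (hAK : A ≤ K) (hK : K ≠ L (n - 4)) : ∃ g : X, K = E.map (MulAut.conj g).toMonoidHom := by
  have h := C.mc
  have h5 := C.five
  have := h.nilpotent
  have hNtop : N < ⊤ := lt_top_iff_ne_top.2 fun e' => C.false_of_le fun g => e' ▸ mem_top g
  obtain ⟨t, ht, htN⟩ := SetLike.exists_of_lt (Group.normalizerCondition_of_isNilpotent N hNtop)
  set r := ⁅t, e⁆ with hr_def
  have hrB : r ∈ L (n - 4) := by
    rw [← C.normalizer_inf]
    refine ⟨?_, comm_mem_succ (i := 0) (by simp) e⟩
    rw [hr_def, show ⁅t, e⁆ = t * e * t⁻¹ * e⁻¹ by rfl]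
    exact mul_mem ((mem_normalizer_iff.1 ht e).1 (C.E_le C.eE)) ((normalizer (E : Set X)).inv_mem (C.E_le C.eE))
  have hrA : r ∉ A := by
    intro hr
    refine htN (mem_normalizer_of_conj_le fun w hw => ?_)
    rw [← C.sup_e] at hw
    have hle : A ⊔ zpowers e ≤ E.comap (MulAut.conj t).toMonoidHom := by
      refine sup_le (fun a ha => C.A_le (C.conj_A ht ha)) (zpowers_le.2 ?_)
      show t * e * t⁻¹ ∈ E
      rw [show t * e * t⁻¹ = r * e by simp only [hr_def, commutatorElement_def]; group]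
      exact mul_mem (C.A_le hr) C.eE
    exact hle hw
  have hcard3 : Nat.card (L (n - 4)) = p ^ 3 := by
    rw [h.card_layer (by omega) (by omega), show n - 1 - (n - 4) = 3 by omega]
  have hBsup : A ⊔ zpowers r = L (n - 4) :=
    sup_zpowers_eq h.card C.A_le_third hrB hrA (by rw [hcard3, C.cardA, ← pow_succ'])
  obtain ⟨w, hwK, hwB⟩ : ∃ w ∈ K, w ∉ L (n - 4) := by
    by_contra hh
    push Not at hh
    exact hK (eq_of_le_of_card_ge hh (by rw [hcard3, hKc]))
  obtain ⟨b, hb, u, hu, hbu⟩ := mem_sup_of_normal_left.1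
    ((C.third_sup (hKN hwK) hwB).ge (C.E_le C.eE))
  have hbe : b⁻¹ * e ∈ K := by
    rw [← hbu, inv_mul_cancel_left]
    exact zpowers_le.2 hwK hu
  have hrN : r ∈ N := C.position.2.2 hrB
  have hnorm : zpowers r ≤ normalizer (A : Set X) := zpowers_le.2 (mem_normalizer_of_conj_le fun a ha => by
    rw [C.central a ha r hrN, mul_inv_cancel_right]; exact ha)
  have hb' : b⁻¹ ∈ ((A : Subgroup X) : Set X) * (zpowers r : Set X) := by
    rw [← coe_mul_of_right_le_normalizer_left _ _ hnorm, hBsup]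
    exact inv_mem hb
  obtain ⟨a, ha, v, hv, hav⟩ := hb'
  obtain ⟨i, hi⟩ := mem_powers_iff_mem_zpowers.2 hv
  have hre : r ^ i * e ∈ K := by
    rw [show r ^ i * e = a⁻¹ * (b⁻¹ * e) by rw [← hav]; simp only at hi ⊢; rw [hi]; group]
    exact mul_mem (inv_mem (hAK ha)) hbe
  have hind : ∀ j : ℕ, ∃ a ∈ A, t ^ j * e * (t ^ j)⁻¹ = a * (r ^ j * e) := by
    intro j
    induction j with
    | zero => exact ⟨1, one_mem _, by simp⟩
    | succ j ih =>
      obtain ⟨a, ha, hj⟩ := ih
      have hd : ⁅t, r⁆ ∈ A := by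
        rw [← commutatorElement_inv]; exact inv_mem (C.comm_third ht hrB)
      have hcomm : Commute ⁅t, r⁆ r := (C.central _ hd r hrN).symm
      refine ⟨t * a * t⁻¹ * ⁅t, r⁆ ^ j, mul_mem (C.conj_A ht ha) (pow_mem hd j), ?_⟩
      have e1 : t * r ^ j * t⁻¹ = ⁅t, r⁆ ^ j * r ^ j := by
        rw [← conj_pow, show t * r * t⁻¹ = ⁅t, r⁆ * r by simp only [commutatorElement_def]; group,
          hcomm.mul_pow]
      have e2 : t * e * t⁻¹ = r * e := by simp only [hr_def, commutatorElement_def]; group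
      calc t ^ (j + 1) * e * (t ^ (j + 1))⁻¹ = t * (t ^ j * e * (t ^ j)⁻¹) * t⁻¹ := by
            rw [pow_succ']; group
        _ = t * (a * (r ^ j * e)) * t⁻¹ := by rw [hj]
        _ = t * a * t⁻¹ * (t * r ^ j * t⁻¹) * (t * e * t⁻¹) := by group
        _ = _ := by rw [e1, e2, pow_succ]; simp only [mul_assoc]
  obtain ⟨a', ha', hte⟩ := hind i
  refine ⟨t ^ i, (eq_of_le_of_card_ge ?_ ?_).symm⟩
  · rw [← C.sup_e, Subgroup.map_sup, MonoidHom.map_zpowers]
    refine sup_le ?_ (zpowers_le.2 ?_)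
    · rintro _ ⟨a, ha, rfl⟩
      exact hAK (C.conj_A (pow_mem ht i) ha)
    · show t ^ i * e * (t ^ i)⁻¹ ∈ K
      rw [hte]
      exact mul_mem (hAK ha') hre
  · rw [card_map_of_injective (MulAut.conj (t ^ i)).injective, C.cardE, hKc]

theorem exists_exponent {β : MulAut X} {g : X} (h : β g ∈ zpowers g ⊔ L 1) :
    ∃ k : ℤ, (g ^ k)⁻¹ * β g ∈ L 1 := by
  obtain ⟨u, hu, m, hm, hum⟩ := mem_sup_of_normal_right.1 h
  obtain ⟨k, rfl⟩ := mem_zpowers_iff.1 hu
  exact ⟨k, by rw [← hum, inv_mul_cancel_left]; exact hm⟩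

section Final

variable (C : CubeConfig p n E x e z c) (hp : 5 ≤ p) (β : MulAut X) (hz : β z = z⁻¹) (hc : β c = c)
include C hp hz hc

omit hp in
theorem layer_A {a : X} (ha : a ∈ A) :
    (∃ i : ℤ, a⁻¹ * β a = z ^ i) ∧ ∃ j : ℤ, a * β a = c ^ j := by
  obtain ⟨i, j, rfl⟩ := C.exists_A ha
  have hcm : z ^ i * c ^ j = c ^ j * z ^ i := C.comm _ (zpow_mem C.zE i) _ (zpow_mem C.cE j)
  rw [map_mul, map_zpow, map_zpow, hz, hc]
  constructor
  · refine ⟨-(i + i), ?_⟩
    calc (z ^ i * c ^ j)⁻¹ * (z⁻¹ ^ i * c ^ j) = (c ^ j)⁻¹ * ((z ^ i)⁻¹ * z⁻¹ ^ i) * c ^ j := by group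
      _ = (c ^ j)⁻¹ * c ^ j * z ^ (-(i + i)) := by
        rw [mul_assoc _ ((z ^ i)⁻¹ * z⁻¹ ^ i), mul_assoc (c ^ j)⁻¹ (c ^ j)]
        congr 1
        rw [show (z ^ i)⁻¹ * z⁻¹ ^ i = z ^ (-(i + i)) by group,
          C.comm _ (zpow_mem C.zE _) _ (zpow_mem C.cE j)]
      _ = z ^ (-(i + i)) := by rw [inv_mul_cancel, one_mul]
  · refine ⟨j + j, ?_⟩
    calc z ^ i * c ^ j * (z⁻¹ ^ i * c ^ j) = c ^ j * (z ^ i * z⁻¹ ^ i) * c ^ j := by rw [hcm]; group
      _ = c ^ (j + j) := by group

omit hp in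
theorem weight_last_neg (hzZ : z ∈ L (n - 2)) : WeightMod p β (n - 2) (-1) := by
  refine ⟨-1, fun w hw => ?_, by push_cast; rfl⟩
  have h1 : zpowers z = L (n - 2) := eq_of_le_of_card_ge (zpowers_le.2 hzZ) (by
    rw [C.mc.card_layer (by have := C.five; omega) (by have := C.five; omega), Nat.card_zpowers,
      orderOf_eq_prime (C.exp z C.zE) C.z1, show n - 1 - (n - 2) = 1 by have := C.five; omega, pow_one])
  obtain ⟨i, rfl⟩ := mem_zpowers_iff.1 (h1.ge hw)
  rw [map_zpow, hz, show ((z ^ i) ^ (-1 : ℤ))⁻¹ * z⁻¹ ^ i = 1 by group]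
  exact one_mem _

omit hp hz in
theorem weight_last_pos (hcZ : c ∈ L (n - 2)) : WeightMod p β (n - 2) 1 := by
  refine ⟨1, fun w hw => ?_, by push_cast; rfl⟩
  have h1 : zpowers c = L (n - 2) := eq_of_le_of_card_ge (zpowers_le.2 hcZ) (by
    rw [C.mc.card_layer (by have := C.five; omega) (by have := C.five; omega), Nat.card_zpowers,
      orderOf_eq_prime (C.exp c C.cE) (fun e' => C.cz (e' ▸ one_mem _)),
      show n - 1 - (n - 2) = 1 by have := C.five; omega, pow_one])
  obtain ⟨i, rfl⟩ := mem_zpowers_iff.1 (h1.ge hw)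
  rw [map_zpow, hc, zpow_one, inv_mul_cancel]
  exact one_mem _

theorem two_ne_zero' : (1 : ZMod p) ≠ -1 := by
  intro h
  have h2 : ((2 : ℕ) : ZMod p) = 0 := by
    push_cast
    linear_combination h
  have := Nat.le_of_dvd (by norm_num) ((ZMod.natCast_eq_zero_iff 2 p).1 h2)
  omega

theorem false_of_first (h2 : ¬ L (n - 3) ≤ E) (hB : ∀ b ∈ L (n - 4), b⁻¹ * β b ∈ L (n - 2)) : False := by
  have h := C.mc
  have h5 := C.five
  have h4 : WeightMod p β (n - 4) 1 := ⟨1, fun w hw => by
    rw [zpow_one]; exact Subgroup.lowerCentralSeries_antitone _ (by omega) (hB w hw), by push_cast; rfl⟩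
  have h3 : WeightMod p β (n - 3) 1 := ⟨1, fun w hw => by
    rw [zpow_one]
    exact Subgroup.lowerCentralSeries_antitone _ (by omega)
      (hB w (Subgroup.lowerCentralSeries_antitone _ (by omega) hw)), by push_cast; rfl⟩
  have hlast := C.weight_last_neg β hz hc (C.z_mem_last h2)
  have he1 := C.e_notMem h2
  have heT : ∀ i, 1 ≤ i → i + 4 ≤ n → twoStep (S := X) i = zpowers e ⊔ L 1 := fun i hi hi4 =>
    twoStep_eq h (by omega) (C.mem_twoStep_all h2 hi hi4) he1
  have he3 := C.notMem_last_twoStep h2 C.eE C.eA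
  obtain ⟨u, hu, hu1⟩ := exists_mem_twoStep h (i := n - 3) (by omega) (by omega)
  have huT : u ∉ zpowers e ⊔ L 1 := by
    intro hc'
    rw [← heT (n - 4) (by omega) (by omega), twoStep_eq h (by omega) (C.mem_twoStep_all h2 (i := n - 4) (by omega) (by omega)) he1] at hc'
    have e1 : twoStep (S := X) (n - 4) = zpowers u ⊔ L 1 := twoStep_eq h (by omega)
      (by rw [heT (n - 4) (by omega) (by omega)]; exact hc') hu1
    exact he3 (by
      rw [twoStep_eq h (by omega) hu hu1, ← e1]
      exact C.mem_twoStep_all h2 (by omega) (by omega))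
  obtain ⟨k, hk⟩ := exists_exponent (β := β) (g := e) (by
    rw [← heT (n - 4) (by omega) (by omega)]
    exact map_twoStep_mem β (C.mem_twoStep_all h2 (by omega) (by omega)))
  obtain ⟨l, hl⟩ := exists_exponent (β := β) (g := u) (by
    rw [← twoStep_eq h (by omega) hu hu1]
    exact map_twoStep_mem β hu)
  have hk1 : (k : ZMod p) = -1 := by
    have := h3.step h (by omega) (one_le_twoStep _ hk) he3
    rw [show n - 3 + 1 = n - 2 by omega] at this
    simpa using this.unique h (by omega) (by omega) hlast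
  have hl1 : (l : ZMod p) = 1 := by
    have := h4.step h (by omega) (one_le_twoStep _ hl) (by rw [heT (n - 4) (by omega) (by omega)]; exact huT)
    rw [show n - 4 + 1 = n - 3 by omega] at this
    simpa using this.unique h (by omega) (by omega) h3
  have hall : ∀ i, 1 ≤ i → i + 4 ≤ n → WeightMod p β i (-1) := by
    intro i hi
    induction i, hi using Nat.le_induction with
    | base =>
      intro _
      have := WeightMod.one_of_gen h he1 huT hk (mem_sup_right hl) (by omega)
      rwa [hk1, hl1, mul_one] at this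
    | succ i hi ih =>
      intro hi4
      have := (ih (by omega)).step h (by omega) (one_le_twoStep _ hl) (by rw [heT i hi (by omega)]; exact huT)
      rwa [hl1, mul_one] at this
  exact two_ne_zero' C hp β hz hc (h4.unique h (by omega) (by omega) (hall (n - 4) (by omega) (by omega)))

theorem false_of_second (h2 : L (n - 3) ≤ E) (hzc : z ∈ L (n - 2) ∨ c ∈ L (n - 2))
    (hB : ∀ b ∈ L (n - 4), b⁻¹ * β b ∈ A) : False := by
  have h := C.mc
  have h5 := C.five
  have hA := C.second_eq h2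
  have h4 : WeightMod p β (n - 4) 1 := ⟨1, fun w hw => by
    rw [zpow_one, show n - 4 + 1 = n - 3 by omega, hA]; exact hB w hw, by push_cast; rfl⟩
  have he1 := C.e_notMem_of_second_le h2
  have he3 : e ∈ twoStep (S := X) (n - 3) := fun w hw => by
    rw [commutatorElement_eq_one_iff_mul_comm.2 (C.comm w (h2 hw) e C.eE)]
    exact one_mem _
  have hT3 : twoStep (S := X) (n - 3) = zpowers e ⊔ L 1 := twoStep_eq h (by omega) he3 he1
  obtain ⟨s, hs⟩ : ∃ s, s ∉ twoStep (S := X) (n - 3) := by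
    by_contra hh
    push Not at hh
    exact h.twoStep_ne_top (i := n - 3) (by omega) (eq_top_iff.2 fun x _ => hh x)
  have hsT : s ∉ zpowers e ⊔ L 1 := hT3 ▸ hs
  obtain ⟨l, hl⟩ : ∃ l : ℤ, (s ^ l)⁻¹ * β s ∈ zpowers e ⊔ L 1 := by
    haveI : (zpowers e ⊔ L 1).Normal := normal_of_one_le le_sup_right
    have htop : zpowers s ⊔ (zpowers e ⊔ L 1) = ⊤ := eq_of_sup_eq_top h he1 hsT
      (mem_sup_right (mem_sup_left (mem_zpowers e))) (mem_sup_left (mem_zpowers s))
    obtain ⟨u, hu, m, hm, hum⟩ := mem_sup_of_normal_right.1 (htop.ge (mem_top (β s)))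
    obtain ⟨l, rfl⟩ := mem_zpowers_iff.1 hu
    exact ⟨l, by rw [← hum, inv_mul_cancel_left]; exact hm⟩
  have hl3 : (s ^ l)⁻¹ * β s ∈ twoStep (S := X) (n - 3) := hT3 ▸ hl
  by_cases hzZ : z ∈ L (n - 2)
  · have hlast := C.weight_last_neg β hz hc hzZ
    have h3 : WeightMod p β (n - 3) 1 := ⟨1, fun w hw => by
      obtain ⟨i, hi⟩ := (C.layer_A β hz hc (hA.le hw)).1
      rw [zpow_one, hi, show n - 3 + 1 = n - 2 by omega]
      exact zpow_mem hzZ i, by push_cast; rfl⟩
    have he4 : e ∈ twoStep (S := X) (n - 4) := fun w hw => by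
      rw [show n - 4 + 2 = n - 2 by omega]
      exact zpowers_le.2 hzZ (C.comm_z (C.position.2.2 hw) C.eE)
    have hT4 : twoStep (S := X) (n - 4) = zpowers e ⊔ L 1 := twoStep_eq h (by omega) he4 he1
    have a1 := h3.step h (by omega) hl3 hs
    rw [show n - 3 + 1 = n - 2 by omega, one_mul] at a1
    have a2 := h4.step h (by omega) (hT4 ▸ hl) (hT4 ▸ hsT)
    rw [show n - 4 + 1 = n - 3 by omega, one_mul] at a2
    exact two_ne_zero' C hp β hz hc
      ((a2.unique h (by omega) (by omega) h3).symm.trans (a1.unique h (by omega) (by omega) hlast))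
  have hcZ : c ∈ L (n - 2) := hzc.resolve_left hzZ
  have hlast := C.weight_last_pos β hc hcZ
  have h3 : WeightMod p β (n - 3) (-1) := ⟨-1, fun w hw => by
    obtain ⟨j, hj⟩ := (C.layer_A β hz hc (hA.le hw)).2
    rw [show (w ^ (-1 : ℤ))⁻¹ * β w = w * β w by group, hj, show n - 3 + 1 = n - 2 by omega]
    exact zpow_mem hcZ j, by push_cast; rfl⟩
  have hek : ∀ i, 1 ≤ i → i + 4 ≤ n → e ∉ twoStep (S := X) i := by
    intro i hi hi4 hei
    classical
    have := Fintype.ofFinite (L i)
    have := Fintype.ofFinite (L (i + 2))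
    have := Fintype.ofFinite (A : Subgroup X)
    let f : L i → L (i + 2) := fun g => ⟨⁅(g : X), e⁆, hei g g.2⟩
    have hfib : ∀ t ∈ Finset.univ.image f, ((Finset.univ : Finset (L i)).filter fun g => f g = t).card ≤ p ^ 2 := by
      intro t ht
      obtain ⟨g0, -, rfl⟩ := Finset.mem_image.1 ht
      rw [← C.cardA, Nat.card_eq_fintype_card, ← Finset.card_univ]
      have hmem : ∀ g ∈ (Finset.univ : Finset (L i)).filter (fun g => f g = f g0), (g0 : X)⁻¹ * (g : X) ∈ A := by
        intro g hg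
        have h0 : (g : X) * e * (g : X)⁻¹ = (g0 : X) * e * (g0 : X)⁻¹ :=
          mul_right_cancel (congrArg Subtype.val (Finset.mem_filter.1 hg).2)
        refine C.inter_one (C.cent e C.eE C.eA _ ?_)
          (Subgroup.lowerCentralSeries_antitone _ hi (mul_mem (inv_mem g0.2) g.2))
        calc (g0 : X)⁻¹ * g * e = (g0 : X)⁻¹ * ((g : X) * e * (g : X)⁻¹) * g := by group
          _ = e * ((g0 : X)⁻¹ * g) := by rw [h0]; group
      refine Finset.card_le_card_of_injOn (fun g => if hg : (g0 : X)⁻¹ * (g : X) ∈ A then ⟨_, hg⟩ else 1)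
        (fun g _ => Finset.mem_univ _) ?_
      intro g hg g' hg' heq
      simp only [dif_pos (hmem g hg), dif_pos (hmem g' hg'), Subtype.mk.injEq, mul_right_inj] at heq
      exact Subtype.ext heq
    have h1 := Finset.card_le_mul_card_image (Finset.univ : Finset (L i)) (p ^ 2) hfib
    have e' : Finset.univ.image f = Finset.univ := by
      refine Finset.eq_univ_of_card _ (le_antisymm (Finset.card_le_univ _) ?_)
      rw [Finset.card_univ, ← Nat.card_eq_fintype_card, h.card_layer hi (by omega),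
        show n - 1 - i = 2 + (n - 1 - (i + 2)) by omega, pow_add] at h1
      rw [← Nat.card_eq_fintype_card, h.card_layer (by omega) (by omega)]
      exact Nat.le_of_mul_le_mul_left h1 (pow_pos (Fact.out : p.Prime).pos 2)
    obtain ⟨g, -, hg⟩ := Finset.mem_image.1 (e' ▸ Finset.mem_univ
      (⟨c, Subgroup.lowerCentralSeries_antitone _ (by omega) hcZ⟩ : L (i + 2)) :
      (⟨c, _⟩ : L (i + 2)) ∈ Finset.univ.image f)
    have hge : ⁅(g : X), e⁆ = c := congrArg Subtype.val hg
    have hgN : (g : X) ∈ N := mem_normalizer_of_conj_le fun w hw => by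
      rw [← C.sup_e] at hw
      have hle : A ⊔ zpowers e ≤ E.comap (MulAut.conj (g : X)).toMonoidHom := by
        refine sup_le (fun a ha => C.A_le ?_) (zpowers_le.2 ?_)
        · show (g : X) * a * (g : X)⁻¹ ∈ _
          rw [← hA] at ha ⊢
          exact (lcsNormal _).conj_mem a ha g
        · show (g : X) * e * (g : X)⁻¹ ∈ E
          rw [show (g : X) * e * (g : X)⁻¹ = ⁅(g : X), e⁆ * e by simp only [commutatorElement_def]; group, hge]
          exact mul_mem C.cE C.eE
      exact hle hw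
    exact C.cz (hge ▸ C.comm_z hgN C.eE)
  obtain ⟨k, hk⟩ := exists_exponent (β := β) (g := e) (by rw [← hT3]; exact map_twoStep_mem β he3)
  have hk1 : (k : ZMod p) = -1 := by
    have := h4.step h (by omega) (one_le_twoStep _ hk) (hek (n - 4) (by omega) (by omega))
    rw [show n - 4 + 1 = n - 3 by omega] at this
    simpa using this.unique h (by omega) (by omega) h3
  have hl1 : (l : ZMod p) = -1 := by
    have := h3.step h (by omega) hl3 hs
    rw [show n - 3 + 1 = n - 2 by omega] at this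
    have h1 := this.unique h (by omega) (by omega) hlast
    linear_combination -h1
  have hall : ∀ i, 1 ≤ i → i + 3 ≤ n → WeightMod p β i ((-1) ^ (i + 1)) := by
    intro i hi
    induction i, hi using Nat.le_induction with
    | base =>
      intro _
      have := WeightMod.one_of_gen h he1 hsT hk hl (by omega)
      rw [hk1, hl1] at this
      convert this using 1
      ring
    | succ i hi ih =>
      intro hi3
      have := (ih (by omega)).step h (by omega) (one_le_twoStep _ hk) (hek i hi (by omega))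
      rw [hk1] at this
      convert this using 1
      ring
  obtain ⟨m, hm⟩ := even_of_kill_last h he1 hsT he3 hek (by omega)
  have h1 := h3.unique h (by omega) (by omega) (hall (n - 3) (by omega) (by omega))
  rw [show n - 3 + 1 = 2 * (m - 1) by omega, pow_mul] at h1
  refine two_ne_zero' C hp β hz hc ?_
  rw [h1]
  simp

end Final

end CubeConfig

end CfsgLib.FusionMaxClass
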