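import Cfsg.Agent.Lib.MaxClassUniform.Basic

/-!
Commutator pairings between the layers of a `p`-group of maximal class: parity of the first change of
the two-step centralizers, their constancy below the last one in small order, and automorphisms acting
by signs on the layers.
-/

set_option autoImplicit false
set_option linter.unusedSectionVars false

open Subgroup
open scoped commutatorElement

namespace CfsgLib.FusionMaxClass

open Cfsg.Agent.S3806 (MaxClass twoStep)
open CfsgLib.MaxClassUniform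

universe u

variable {X : Type u} [Group X]

local notation "L" => Subgroup.lowerCentralSeries (⊤ : Subgroup X)

instance lcsNormal (k : ℕ) : (L k).Normal := normal_of_characteristic _

/-- Reduction modulo a layer. -/
def red (k : ℕ) : X →* X ⧸ L k := QuotientGroup.mk' (L k)

theorem red_eq_one {k : ℕ} {x : X} : red k x = 1 ↔ x ∈ L k := by
  rw [red, QuotientGroup.mk'_apply, QuotientGroup.eq_one_iff]

theorem red_comm {k : ℕ} {x : X} (hx : x ∈ L k) (w : X ⧸ L (k + 1)) :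
    red (k + 1) x * w = w * red (k + 1) x := by
  obtain ⟨g, rfl⟩ := QuotientGroup.mk'_surjective (L (k + 1)) w
  rw [← commutatorElement_eq_one_iff_mul_comm]
  show ⁅red (k + 1) x, red (k + 1) g⁆ = 1
  rw [← map_commutatorElement, red_eq_one]
  exact comm_mem_succ hx g

theorem red_conj {k : ℕ} {x : X} (hx : x ∈ L k) (w : X) :
    red (k + 1) (w * x * w⁻¹) = red (k + 1) x := by
  rw [map_mul, map_mul, map_inv, ← red_comm hx, mul_inv_cancel_right]

theorem comm_lcs {i j m : ℕ} {x y : X} (hx : x ∈ L i) (hy : y ∈ L j) (hm : m ≤ i + j + 1) :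
    ⁅x, y⁆ ∈ L m :=
  Subgroup.lowerCentralSeries_antitone _ hm
    (CfsgLib.FGStruct.commutator_lcs_le ⊤ i j (commutator_mem_commutator hx hy))

theorem comm_mul_left {k : ℕ} {y y' : X} (hy' : y' ∈ L k) (g : X) :
    red (k + 2) ⁅y * y', g⁆ = red (k + 2) ⁅y, g⁆ * red (k + 2) ⁅y', g⁆ := by
  rw [show ⁅y * y', g⁆ = y * ⁅y', g⁆ * y⁻¹ * ⁅y, g⁆ by simp only [commutatorElement_def]; group,
    map_mul, red_conj (k := k + 1) (comm_mem_succ hy' g), red_comm (k := k + 1) (comm_mem_succ hy' g)]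

theorem comm_mul_right {k : ℕ} {y : X} (hy : y ∈ L k) (g g' : X) :
    red (k + 2) ⁅y, g * g'⁆ = red (k + 2) ⁅y, g⁆ * red (k + 2) ⁅y, g'⁆ := by
  rw [show ⁅y, g * g'⁆ = ⁅y, g⁆ * (g * ⁅y, g'⁆ * g⁻¹) by simp only [commutatorElement_def]; group,
    map_mul, red_conj (k := k + 1) (comm_mem_succ hy g')]

theorem comm_zpow_left {k : ℕ} {y : X} (hy : y ∈ L k) (g : X) (a : ℤ) :
    red (k + 2) ⁅y ^ a, g⁆ = red (k + 2) ⁅y, g⁆ ^ a := by
  let f : L k →* X ⧸ L (k + 2) :=
    MonoidHom.mk' (fun z => red (k + 2) ⁅(z : X), g⁆) fun z w => comm_mul_left w.2 g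
  exact map_zpow f ⟨y, hy⟩ a

theorem comm_zpow_right {k : ℕ} {y : X} (hy : y ∈ L k) (g : X) (a : ℤ) :
    red (k + 2) ⁅y, g ^ a⁆ = red (k + 2) ⁅y, g⁆ ^ a :=
  map_zpow (MonoidHom.mk' (fun h => red (k + 2) ⁅y, h⁆) fun h h' => comm_mul_right hy h h') g a

theorem comm_low_left {k : ℕ} {y : X} (hy : y ∈ L (k + 1)) (g : X) : red (k + 2) ⁅y, g⁆ = 1 :=
  red_eq_one.2 (comm_mem_succ hy g)

theorem comm_low_right {k : ℕ} {y g : X} (hy : y ∈ L k) (hg : g ∈ L 1) : red (k + 2) ⁅y, g⁆ = 1 :=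
  red_eq_one.2 (comm_lcs hy hg le_rfl)

variable [Finite X] {p n : ℕ} [Fact p.Prime]

theorem eq_zpowers_sup (h : MaxClass p n X) {k : ℕ} (hk1 : 1 ≤ k) (hk : k + 1 ≤ n - 1) {y : X}
    (hy : y ∈ L k) (hy' : y ∉ L (k + 1)) : L k = zpowers y ⊔ L (k + 1) := by
  have hle : zpowers y ⊔ L (k + 1) ≤ L k :=
    sup_le (zpowers_le.2 hy) (Subgroup.lowerCentralSeries_antitone _ k.le_succ)
  refine (eq_of_le_of_card_ge hle ?_).symm
  have hlt : L (k + 1) < zpowers y ⊔ L (k + 1) :=
    lt_of_le_of_ne le_sup_right fun e => hy' (e ▸ mem_sup_left (mem_zpowers y))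
  have h1 := mul_card_le h.card hlt
  rw [h.card_layer (by omega) hk, ← pow_succ'] at h1
  rw [h.card_layer hk1 (by omega)]
  rwa [show n - 1 - (k + 1) + 1 = n - 1 - k by omega] at h1

theorem exists_zpow (h : MaxClass p n X) {k : ℕ} (hk1 : 1 ≤ k) (hk : k + 1 ≤ n - 1) {y w : X}
    (hy : y ∈ L k) (hy' : y ∉ L (k + 1)) (hw : w ∈ L k) :
    ∃ a : ℤ, ∃ r ∈ L (k + 1), w = y ^ a * r := by
  rw [eq_zpowers_sup h hk1 hk hy hy', mem_sup_of_normal_right] at hw
  obtain ⟨u, hu, r, hr, rfl⟩ := hw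
  obtain ⟨a, rfl⟩ := mem_zpowers_iff.1 hu
  exact ⟨a, r, hr, rfl⟩

theorem card_sup_one (h : MaxClass p n X) {x : X} (hx : x ∉ L 1) :
    p ^ (n - 1) ≤ Nat.card (zpowers x ⊔ L 1 : Subgroup X) := by
  have hlt : L 1 < zpowers x ⊔ L 1 :=
    lt_of_le_of_ne le_sup_right fun e => hx (e ▸ mem_sup_left (mem_zpowers x))
  have h1 := mul_card_le h.card hlt
  rw [h.card_one, ← pow_succ', show n - 2 + 1 = n - 1 by have := h.three; omega] at h1
  exact h1

/-- Two elements which are independent modulo the derived group generate. -/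
theorem eq_of_sup_eq_top (h : MaxClass p n X) {x y : X} (hx : x ∉ L 1) (hy : y ∉ zpowers x ⊔ L 1)
    {K : Subgroup X} (hxK : x ∈ K) (hyK : y ∈ K) : K = ⊤ := by
  have := h.nilpotent
  refine Cfsg.Agent.S3806.eq_top_of_sup_commutator ?_
  rw [← Subgroup.top_lowerCentralSeries_one]
  refine eq_top_of_le_card _ ?_
  have hlt : zpowers x ⊔ L 1 < K ⊔ L 1 :=
    lt_of_le_of_ne (sup_le_sup_right (zpowers_le.2 hxK) _) fun e => hy (e ▸ mem_sup_left hyK)
  have h1 := mul_card_le h.card hlt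
  refine le_trans ?_ ((Nat.mul_le_mul_left p (card_sup_one h hx)).trans h1)
  rw [h.card, ← pow_succ', show n - 1 + 1 = n by have := h.three; omega]

theorem twoStep_eq (h : MaxClass p n X) {i : ℕ} (hi : i + 3 ≤ n) {x : X}
    (hx : x ∈ twoStep (S := X) i) (hx1 : x ∉ L 1) : twoStep (S := X) i = zpowers x ⊔ L 1 := by
  refine le_antisymm (fun y hy => ?_) (sup_le (zpowers_le.2 hx) (one_le_twoStep i))
  by_contra hne
  exact h.twoStep_ne_top (i := i) (by omega) (eq_of_sup_eq_top h hx1 hne hx hy)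

theorem exists_mem_twoStep (h : MaxClass p n X) {i : ℕ} (hi1 : 1 ≤ i) (hi : i + 3 ≤ n) :
    ∃ a ∈ twoStep (S := X) i, a ∉ L 1 := by
  obtain ⟨s, hs⟩ : ∃ s, s ∉ twoStep (S := X) i := by
    by_contra hh
    push Not at hh
    exact h.twoStep_ne_top (i := i) (by omega) (eq_top_iff.2 fun x _ => hh x)
  obtain ⟨y, hyx, hyx', hy, -⟩ := h.exists_gen (i := i) (by omega) hs
  have hy' : y ∉ L (i + 1) := fun hc => hyx' (comm_mem_succ hc s)
  obtain ⟨g, hg⟩ : ∃ g, g ∉ zpowers s ⊔ L 1 := by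
    by_contra hh
    push Not at hh
    exact h.not_cyclic_top s (eq_top_iff.2 fun x _ => hh x)
  obtain ⟨a, r, hr, hgr⟩ := exists_zpow h (k := i + 1) (by omega) (by omega) hyx hyx' (comm_mem_succ hy g)
  refine ⟨g * s ^ (-a), fun z hz => ?_, fun hc => hg ?_⟩
  · obtain ⟨b, r', hr', rfl⟩ := exists_zpow h hi1 (by omega) hy hy' hz
    rw [← red_eq_one, comm_mul_left (Subgroup.lowerCentralSeries_antitone _ i.le_succ hr') _,
      comm_low_left hr', mul_one, comm_zpow_left hy, comm_mul_right hy, comm_zpow_right hy, hgr,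
      map_mul, map_zpow, red_eq_one.2 hr, mul_one, ← zpow_add, add_neg_cancel, zpow_zero, one_zpow]
  · have : g = g * s ^ (-a) * s ^ a := by group
    rw [this]
    exact mul_mem (mem_sup_right hc) (mem_sup_left (zpow_mem (mem_zpowers s) a))

theorem jacobi {i j : ℕ} {x y : X} (hx : x ∈ L i) (hy : y ∈ L j) (g : X) :
    red (i + j + 3) ⁅g, ⁅x, y⁆⁆ =
      red (i + j + 3) ⁅⁅g, x⁆, y⁆ * red (i + j + 3) ⁅x, ⁅g, y⁆⁆ := by
  have hu : ⁅g, x⁆ ∈ L (i + 1) := by
    rw [← commutatorElement_inv]; exact inv_mem (comm_mem_succ hx g)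
  have hv : ⁅g, y⁆ ∈ L (j + 1) := by
    rw [← commutatorElement_inv]; exact inv_mem (comm_mem_succ hy g)
  set u := ⁅g, x⁆
  set v := ⁅g, y⁆
  set r := red (X := X) (i + j + 3)
  have h1 : g * ⁅x, y⁆ * g⁻¹ = u * (⁅x, v⁆ * (v * ⁅x, y⁆ * v⁻¹)) * u⁻¹ *
      (⁅u, v⁆ * (v * ⁅u, y⁆ * v⁻¹)) := by
    simp only [u, v, commutatorElement_def]; group
  have hxy : ⁅x, y⁆ ∈ L (i + j + 1) := comm_lcs hx hy le_rfl
  have hxv : ⁅x, v⁆ ∈ L (i + j + 2) := comm_lcs hx hv (by omega)
  have huy : ⁅u, y⁆ ∈ L (i + j + 2) := comm_lcs hu hy (by omega)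
  have hcv : r (v * ⁅x, y⁆ * v⁻¹) = r ⁅x, y⁆ := by
    rw [show v * ⁅x, y⁆ * v⁻¹ = ⁅v, ⁅x, y⁆⁆ * ⁅x, y⁆ by simp only [commutatorElement_def]; group,
      map_mul, red_eq_one.2 (comm_lcs hv hxy (by omega)), one_mul]
  have hcu : r (u * ⁅x, y⁆ * u⁻¹) = r ⁅x, y⁆ := by
    rw [show u * ⁅x, y⁆ * u⁻¹ = ⁅u, ⁅x, y⁆⁆ * ⁅x, y⁆ by simp only [commutatorElement_def]; group,
      map_mul, red_eq_one.2 (comm_lcs hu hxy (by omega)), one_mul]
  have h2 : r ⁅g, ⁅x, y⁆⁆ * r ⁅x, y⁆ = r (g * ⁅x, y⁆ * g⁻¹) := by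
    rw [← map_mul]; congr 1; simp only [commutatorElement_def]; group
  have e1 : r (u * (⁅x, v⁆ * (v * ⁅x, y⁆ * v⁻¹)) * u⁻¹) = r ⁅x, v⁆ * r ⁅x, y⁆ := by
    rw [← hcu, map_mul, map_mul, map_mul, hcv, map_mul, map_mul, ← mul_assoc (r u),
      show r u * r ⁅x, v⁆ = r ⁅x, v⁆ * r u from (red_comm (k := i + j + 2) hxv _).symm]
    simp only [mul_assoc]
  rw [h1, map_mul, e1, map_mul, red_eq_one.2 (comm_lcs hu hv (by omega) : ⁅u, v⁆ ∈ L (i + j + 3)), one_mul,
    red_conj (k := i + j + 2) huy] at h2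
  have h3 : r ⁅x, v⁆ * r ⁅x, y⁆ * r ⁅u, y⁆ = r ⁅u, y⁆ * r ⁅x, v⁆ * r ⁅x, y⁆ :=
    (red_comm (k := i + j + 2) huy _).symm.trans (mul_assoc _ _ _).symm
  exact mul_right_cancel (h2.trans h3)

/-- The chain `a, [s,a], [s,[s,a]], …`. -/
def gen (s a : X) : ℕ → X
  | 0 => a
  | k + 1 => ⁅s, gen s a k⁆

theorem gen_mem (s a : X) : ∀ k, gen s a k ∈ L k
  | 0 => by simp
  | k + 1 => by
    rw [gen, ← commutatorElement_inv]
    exact inv_mem (comm_mem_succ (gen_mem s a k) s)

theorem gen_notMem (h : MaxClass p n X) {s a : X} (h1 : gen s a 1 ∉ L 2) {M : ℕ} (hM : M + 1 ≤ n - 1)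
    (hs : ∀ k, 1 ≤ k → k < M → s ∉ twoStep (S := X) k) :
    ∀ k, 1 ≤ k → k ≤ M → gen s a k ∉ L (k + 1) := by
  intro k
  induction k with
  | zero => omega
  | succ k ih =>
    intro _ hkM hc
    rcases Nat.eq_zero_or_pos k with rfl | hk
    · exact h1 hc
    · refine h.comm_notMem hk (by omega) (hs k hk (by omega)) (gen_mem s a k) (ih hk (by omega)) ?_
      rw [← commutatorElement_inv]
      exact inv_mem hc

/-- The recursion in the top pairing. -/
theorem pairing_pow {s a : X} {M : ℕ}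
    (hvan : ∀ i j, i + j + 1 = M → red (M + 2) ⁅s, ⁅gen s a i, gen s a j⁆⁆ = 1) :
    ∀ i, i ≤ M → red (M + 2) ⁅gen s a i, gen s a (M - i)⁆ =
      red (M + 2) ⁅a, gen s a M⁆ ^ ((-1 : ℤ) ^ i) := by
  intro i
  induction i with
  | zero => intro _; rw [pow_zero, zpow_one, Nat.sub_zero]; rfl
  | succ i ih =>
    intro hi
    have hj := hvan i (M - (i + 1)) (by omega)
    have hjac := jacobi (gen_mem s a i) (gen_mem s a (M - (i + 1))) s
    rw [show i + (M - (i + 1)) + 3 = M + 2 by omega] at hjac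
    rw [hjac] at hj
    have hB := ih (by omega)
    rw [show M - i = M - (i + 1) + 1 by omega] at hB
    rw [show ⁅s, gen s a (M - (i + 1))⁆ = gen s a (M - (i + 1) + 1) from rfl, hB] at hj
    rw [show ⁅s, gen s a i⁆ = gen s a (i + 1) from rfl] at hj
    rw [eq_inv_of_mul_eq_one_left hj, ← zpow_neg, pow_succ, mul_neg_one]

/-- An element killing only the last layer step forces even exponent. -/
theorem odd_of_first_kill (h : MaxClass p n X) {s a : X} (hnz : gen s a 1 ∉ L 2) {M : ℕ} (hM1 : 1 ≤ M)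
    (hM : M + 3 ≤ n) (hs : ∀ k, 1 ≤ k → k < M → s ∉ twoStep (S := X) k)
    (hvan : ∀ i j, i + j + 1 = M → red (M + 2) ⁅s, ⁅gen s a i, gen s a j⁆⁆ = 1)
    (ha : a ∉ twoStep (S := X) M) : Odd M := by
  rcases Nat.even_or_odd M with ⟨l, hl⟩ | hodd
  · exfalso
    have h1 := pairing_pow hvan l (by omega)
    rw [show M - l = l by omega, commutatorElement_self, map_one] at h1
    have h2 : red (M + 2) ⁅a, gen s a M⁆ = 1 := by
      rcases neg_one_pow_eq_or ℤ l with e | e <;> rw [e] at h1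
      · rw [zpow_one] at h1; exact h1.symm
      · rw [zpow_neg, zpow_one] at h1; exact inv_eq_one.1 h1.symm
    rw [red_eq_one, ← commutatorElement_inv, inv_mem_iff] at h2
    exact h.comm_notMem hM1 (by omega) ha (gen_mem s a M)
      (gen_notMem h hnz (by omega) hs M hM1 le_rfl) h2
  · exact hodd

theorem even_of_kill_last (h : MaxClass p n X) {s a : X} (hs1 : s ∉ L 1)
    (ha : a ∉ zpowers s ⊔ L 1) (hkill : s ∈ twoStep (S := X) (n - 3))
    (hs : ∀ k, 1 ≤ k → k + 4 ≤ n → s ∉ twoStep (S := X) k) (hn : 4 ≤ n) : Even n := by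
  have hnz : gen s a 1 ∉ L 2 := fun hc => by
    have hK := eq_of_sup_eq_top h hs1 ha (K := commMod (L 2) a) ?_ ?_
    · have : a ∈ twoStep (S := X) 0 := fun z _ => mem_commMod.1 (by rw [hK]; exact mem_top z)
      exact notMem_zero h (fun hc' => ha (mem_sup_right hc')) this
    · exact mem_commMod.2 hc
    · exact mem_commMod.2 (by rw [commutatorElement_self]; exact one_mem _)
  have ha' : a ∉ twoStep (S := X) (n - 3) := fun hc =>
    h.twoStep_ne_top (i := n - 3) (by omega) (eq_of_sup_eq_top h hs1 ha hkill hc)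
  have := odd_of_first_kill h hnz (M := n - 3) (by omega) (by omega)
    (fun k hk hk' => hs k hk (by omega)) (fun i j hij => ?_) ha'
  · obtain ⟨l, hl⟩ := this
    exact ⟨l + 2, by omega⟩
  · rw [red_eq_one, ← commutatorElement_inv]
    exact inv_mem (hkill _ (comm_lcs (gen_mem s a i) (gen_mem s a j) (by omega)))

/-- In small order the two-step centralizers below the last one coincide. -/
theorem twoStep_const (h : MaxClass p n X) (hnp : n ≤ p + 1) :
    ∀ i, 1 ≤ i → i + 4 ≤ n → twoStep (S := X) i = twoStep (S := X) 1 := by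
  classical
  by_contra hcon
  push Not at hcon
  obtain ⟨M, ⟨hM1, hM4, hMne⟩, hmin⟩ := (⟨Nat.find hcon, Nat.find_spec hcon, fun k hk => Nat.find_min hcon hk⟩ :
    ∃ M, (1 ≤ M ∧ M + 4 ≤ n ∧ twoStep (S := X) M ≠ twoStep (S := X) 1) ∧
      ∀ k < M, ¬ (1 ≤ k ∧ k + 4 ≤ n ∧ twoStep (S := X) k ≠ twoStep (S := X) 1))
  have hM2 : 2 ≤ M := by
    by_contra hh
    exact hMne (by rw [show M = 1 by omega])
  obtain ⟨a, ha1, haL⟩ := exists_mem_twoStep h (le_refl 1) (by omega)
  obtain ⟨s, hs, -⟩ := exists_uniform h (twoStep (S := X) 1) (h.twoStep_ne_top (by omega))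
  have hak : ∀ k, 1 ≤ k → k < M → a ∈ twoStep (S := X) k := by
    intro k hk hkM
    by_contra hc
    exact hmin k hkM ⟨hk, by omega, fun e => hc (e ▸ ha1)⟩
  have haM : a ∉ twoStep (S := X) M := fun hc =>
    hMne ((twoStep_eq h (by omega) hc haL).trans (twoStep_eq h (by omega) ha1 haL).symm)
  have haS : a ∉ zpowers s ⊔ L 1 := fun hc => by
    have hle : zpowers a ⊔ L 1 ≤ zpowers s ⊔ L 1 := sup_le (zpowers_le.2 hc) le_sup_right
    refine hs.avoid 1 le_rfl (by omega) ?_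
    rw [twoStep_eq h (by omega) ha1 haL]
    have hne : zpowers s ⊔ L 1 ≠ ⊤ := h.not_cyclic_top s
    by_contra hsa
    exact hne (eq_of_sup_eq_top h haL hsa hc (mem_sup_left (mem_zpowers s)))
  have hsM : ∀ k, 1 ≤ k → k + 3 ≤ n → s ∉ twoStep (S := X) k := fun k hk hk' => hs.avoid k hk hk'
  have hnz : gen s a 1 ∉ L 2 := fun hc => by
    refine notMem_zero h haL fun z _ => ?_
    have hK := eq_of_sup_eq_top h hs.notMem haS (K := commMod (L 2) a) (mem_commMod.2 hc)
      (mem_commMod.2 (by rw [commutatorElement_self]; exact one_mem _))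
    exact mem_commMod.1 (by rw [hK]; exact mem_top z)
  -- the pairings below the change vanish
  have hbelow : ∀ i j, i + j < M → ⁅gen s a i, gen s a j⁆ ∈ L (i + j + 2) := by
    intro i
    induction i with
    | zero =>
      intro j hj
      rcases Nat.eq_zero_or_pos j with rfl | hj'
      · rw [commutatorElement_self]; exact one_mem _
      · rw [zero_add, ← commutatorElement_inv]
        exact inv_mem (hak j hj' (by omega) _ (gen_mem s a j))
    | succ i ih =>
      intro j hj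
      rw [show i + 1 + j + 2 = i + j + 3 by omega, ← red_eq_one]
      have h1 := jacobi (gen_mem s a i) (gen_mem s a j) s
      have h2 : red (X := X) (i + j + 3) ⁅s, ⁅gen s a i, gen s a j⁆⁆ = 1 := by
        rw [red_eq_one, ← commutatorElement_inv]
        exact inv_mem (comm_mem_succ (ih j (by omega)) s)
      have h3 : red (X := X) (i + j + 3) ⁅gen s a i, ⁅s, gen s a j⁆⁆ = 1 :=
        red_eq_one.2 (ih (j + 1) (by omega))
      rw [h2, h3, mul_one] at h1
      exact h1.symm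
  have hvan : ∀ i j, i + j + 1 = M → red (M + 2) ⁅s, ⁅gen s a i, gen s a j⁆⁆ = 1 := by
    intro i j hij
    have hd : ⁅gen s a i, gen s a j⁆ ∈ L (M + 1) := by
      have := hbelow i j (by omega)
      rwa [show i + j + 2 = M + 1 by omega] at this
    rw [red_eq_one, ← commutatorElement_inv]
    exact inv_mem (comm_mem_succ hd s)
  have hB := pairing_pow hvan
  have hgM := gen_notMem h hnz (M := M) (by omega) (fun k hk hkM => hsM k hk (by omega)) M hM1 le_rfl
  set y := ⁅a, gen s a M⁆ with hy_def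
  have hyM : y ∈ L (M + 1) := comm_lcs (i := 0) (by simp : a ∈ L 0) (gen_mem s a M) (by omega)
  have hy' : y ∉ L (M + 2) := by
    rw [hy_def, ← commutatorElement_inv, inv_mem_iff]
    exact h.comm_notMem hM1 (by omega) haM (gen_mem s a M) hgM
  -- the next centralizer contains `a`
  have hnext : a ∈ twoStep (S := X) (M + 1) := by
    by_contra hc
    obtain ⟨hg1, hgN⟩ : gen s a 1 ∈ L 1 ∧ gen s a (M - 1) ∈ L (M - 1) := ⟨gen_mem _ _ _, gen_mem _ _ _⟩
    set w := ⁅gen s a 1, gen s a (M - 1)⁆ with hw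
    have hwM : w ∈ L (M + 1) := comm_lcs hg1 hgN (by omega)
    have hw' : w ∉ L (M + 2) := by
      rw [← red_eq_one, hw]
      have := hB 1 hM1
      rw [this, pow_one, zpow_neg, zpow_one, inv_eq_one, red_eq_one]
      exact hy'
    refine h.comm_notMem (by omega) (by omega) hc hwM hw' ?_
    rw [← commutatorElement_inv, inv_mem_iff, show M + 1 + 2 = 1 + (M - 1) + 3 by omega, ← red_eq_one,
      hw, jacobi hg1 hgN a]
    have e1 : ⁅a, gen s a 1⁆ ∈ L 3 := by
      rw [← commutatorElement_inv]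
      exact inv_mem (hak 1 le_rfl (by omega) _ hg1)
    have e2 : ⁅a, gen s a (M - 1)⁆ ∈ L (M - 1 + 2) := by
      rw [← commutatorElement_inv]
      exact inv_mem (hak (M - 1) (by omega) (by omega) _ hgN)
    rw [red_eq_one.2 (comm_lcs e1 hgN (by omega)), red_eq_one.2 (comm_lcs hg1 e2 (by omega)), one_mul]
  -- the second pairing
  set w := red (M + 3) ⁅s, y⁆ with hw_def
  have hw1 : w ≠ 1 := by
    rw [hw_def, Ne, red_eq_one, ← commutatorElement_inv, inv_mem_iff]
    exact h.comm_notMem (by omega) (by omega) (hsM (M + 1) (by omega) (by omega)) hyM hy'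
  have hE : ∀ i, i ≤ M + 1 → red (M + 3) ⁅gen s a i, gen s a (M + 1 - i)⁆ =
      w ^ (-((-1 : ℤ) ^ i) * i) := by
    intro i
    induction i with
    | zero =>
      intro _
      rw [Nat.cast_zero, mul_zero, zpow_zero, Nat.sub_zero, red_eq_one, ← commutatorElement_inv]
      exact inv_mem (hnext _ (gen_mem s a (M + 1)))
    | succ i ih =>
      intro hi
      rw [Nat.add_sub_add_right]
      have hjac := jacobi (gen_mem s a i) (gen_mem s a (M - i)) s
      rw [show i + (M - i) + 3 = M + 3 by omega] at hjac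
      have hb : red (M + 3) ⁅s, ⁅gen s a i, gen s a (M - i)⁆⁆ = w ^ ((-1 : ℤ) ^ i) := by
        have hr : (y ^ ((-1 : ℤ) ^ i))⁻¹ * ⁅gen s a i, gen s a (M - i)⁆ ∈ L (M + 2) := by
          rw [← red_eq_one, map_mul, map_inv, map_zpow, hB i (by omega), inv_mul_cancel]
        have hrw : ⁅gen s a i, gen s a (M - i)⁆ =
            y ^ ((-1 : ℤ) ^ i) * ((y ^ ((-1 : ℤ) ^ i))⁻¹ * ⁅gen s a i, gen s a (M - i)⁆) := by group
        conv_lhs => rw [hrw, ← commutatorElement_inv, map_inv,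
          comm_mul_left (k := M + 1) (Subgroup.lowerCentralSeries_antitone _ (by omega) hr) s,
          comm_low_left (k := M + 1) hr, mul_one, comm_zpow_left hyM]
        rw [hw_def, ← commutatorElement_inv s y, map_inv, inv_zpow, inv_inv]
      rw [hb] at hjac
      have hih := ih (by omega)
      rw [show M + 1 - i = M - i + 1 by omega] at hih
      rw [show ⁅s, gen s a (M - i)⁆ = gen s a (M - i + 1) from rfl, hih] at hjac
      show red (M + 3) ⁅⁅s, gen s a i⁆, gen s a (M - i)⁆ = _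
      rw [← mul_inv_eq_iff_eq_mul.2 hjac, ← zpow_neg, ← zpow_add]
      congr 1
      push_cast
      ring
  have h1 := hE (M + 1) le_rfl
  rw [Nat.sub_self, show gen s a 0 = a from rfl,
    red_eq_one.2 (hnext _ (gen_mem s a (M + 1)))] at h1
  have hwp : w ^ p = 1 := by
    rw [hw_def, ← map_pow, red_eq_one]
    obtain ⟨s', hs', -⟩ := exists_uniform h (⊥ : Subgroup X) fun e => by
      have hc := h.card
      rw [← Subgroup.card_top (G := X), ← e, Subgroup.card_bot] at hc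
      have := Nat.one_lt_pow (by have := h.three; omega : n ≠ 0) (Fact.out : p.Prime).one_lt
      omega
    refine Subgroup.lowerCentralSeries_antitone _ (by have := (Fact.out : p.Prime).two_le; omega)
      (hs'.pow_mem_layer h (M + 2) (by omega) _ ?_)
    rw [← commutatorElement_inv]
    exact inv_mem (comm_mem_succ hyM s)
  have hdvd : (orderOf w : ℤ) ∣ (-((-1 : ℤ) ^ (M + 1)) * ((M + 1 : ℕ) : ℤ)) :=
    orderOf_dvd_iff_zpow_eq_one.2 h1.symm
  rw [orderOf_eq_prime hwp hw1] at hdvd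
  have h2 := Int.natAbs_dvd_natAbs.2 hdvd
  rw [Int.natAbs_natCast, Int.natAbs_mul, Int.natAbs_neg, Int.natAbs_pow, Int.natAbs_neg,
    Int.natAbs_one, one_pow, one_mul, Int.natAbs_natCast] at h2
  have := Nat.le_of_dvd (by omega) h2
  omega

/-- `β` acts by the power `ε` on layer `k`. -/
def Weight (β : MulAut X) (k : ℕ) (ε : ℤ) : Prop := ∀ y ∈ L k, (y ^ ε)⁻¹ * β y ∈ L (k + 1)

theorem weight_step (h : MaxClass p n X) {β : MulAut X} {k : ℕ} {ε δ : ℤ} (hk : k + 2 ≤ n - 1)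
    (hW : Weight β k ε) {g : X} (hg : (g ^ δ)⁻¹ * β g ∈ L 1) (hgk : g ∉ twoStep (S := X) k) :
    Weight β (k + 1) (ε * δ) := by
  obtain ⟨y, hyx, hyx', hy, -⟩ := h.exists_gen (i := k) (by omega) hgk
  intro w hw
  obtain ⟨a, r, hr, rfl⟩ := exists_zpow h (k := k + 1) (by omega) (by omega) hyx hyx' hw
  rw [← red_eq_one, map_mul, map_inv, inv_mul_eq_one]
  have hmap : ∀ m (z : X), z ∈ L m → β z ∈ L m := fun m z hz =>
    (Subgroup.characteristic_iff_comap_eq.1 inferInstance β).ge hz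
  rw [map_mul β, map_mul, map_zpow, map_mul, red_eq_one.2 hr, mul_one,
    red_eq_one.2 (hmap _ _ hr), mul_one, map_zpow β, map_zpow, map_zpow, map_commutatorElement β]
  have e1 : β y = y ^ ε * ((y ^ ε)⁻¹ * β y) := by group
  have e2 : β g = g ^ δ * ((g ^ δ)⁻¹ * β g) := by group
  rw [e1, e2, comm_mul_left (Subgroup.lowerCentralSeries_antitone _ k.le_succ (hW y hy)) _,
    comm_low_left (hW y hy), mul_one, comm_mul_right (zpow_mem hy ε),
    comm_low_right (zpow_mem hy ε) hg, mul_one, comm_zpow_left hy, comm_zpow_right hy, ← zpow_mul,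
    ← zpow_mul, ← zpow_mul]
  congr 1
  ring

theorem weight_unique (h : MaxClass p n X) (hp : p ≠ 2) {β : MulAut X} {k : ℕ} (hk1 : 1 ≤ k)
    (hk : k + 1 ≤ n - 1) (h1 : Weight β k 1) (h2 : Weight β k (-1)) : False := by
  obtain ⟨y, hy, hy'⟩ := SetLike.exists_of_lt (h.lt (i := k) (by omega))
  have ha := h1 y hy
  have hb := h2 y hy
  rw [zpow_one] at ha
  rw [zpow_neg, zpow_one, inv_inv] at hb
  have hc : red (k + 1) y * red (k + 1) y = 1 := by
    rw [← red_eq_one, map_mul, map_inv, inv_mul_eq_one] at ha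
    rw [← red_eq_one, map_mul, ← ha] at hb
    exact hb
  have h2y : orderOf (red (k + 1) y) ∣ 2 := orderOf_dvd_of_pow_eq_one (by rw [pow_two, hc])
  have hpy : orderOf (red (k + 1) y) ∣ Nat.card (X ⧸ L (k + 1)) := orderOf_dvd_natCard _
  obtain ⟨j, hj⟩ := (IsPGroup.of_card h.card).index (L (k + 1))
  rw [← Subgroup.index_eq_card, hj] at hpy
  have hcop : Nat.Coprime 2 (p ^ j) :=
    ((Nat.coprime_primes Nat.prime_two Fact.out).2 (Ne.symm hp)).pow_right j
  exact hy' (red_eq_one.1 (orderOf_eq_one_iff.1 (Nat.eq_one_of_dvd_coprimes hcop h2y hpy)))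

end CfsgLib.FusionMaxClass
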